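import Mathlib
import Cfsg.Agent.Lib.Helper23.TwoDeg
import Cfsg.Agent.Lib.Helper1.CharFrob
import Cfsg.Agent.Lib.Helper25.Brauer2

set_option autoImplicit false
open Cfsg

namespace Cfsg.Agent.Lib.Helper23.TwoDeg

open Cfsg.Agent.Lib.Helper1

universe u

section cjsec

variable {G : Type u} [Group G] (N : Subgroup G) [hN : N.Normal]

def cj (g : G) (lam : N →* ℂˣ) : N →* ℂˣ := lam.comp (conjNormal N g).toMonoidHom

theorem cj_apply (g : G) (lam : N →* ℂˣ) (n : N) :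
    cj N g lam n = lam ⟨g * n * g⁻¹, hN.conj_mem n n.2 g⟩ := rfl

theorem cj_mul (g : G) (lam mu : N →* ℂˣ) : cj N g (lam * mu) = cj N g lam * cj N g mu := rfl

theorem cj_inv (g : G) (lam : N →* ℂˣ) : cj N g lam⁻¹ = (cj N g lam)⁻¹ := rfl

theorem cj_pow (g : G) (lam : N →* ℂˣ) (j : ℕ) : cj N g (lam ^ j) = (cj N g lam) ^ j := by
  apply MonoidHom.ext
  intro n
  rw [cj_apply, MonoidHom.pow_apply, MonoidHom.pow_apply, cj_apply]

theorem cj_comp (g h : G) (lam : N →* ℂˣ) : cj N (g * h) lam = cj N h (cj N g lam) := by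
  apply MonoidHom.ext
  intro n
  rw [cj_apply, cj_apply, cj_apply]
  congr 1
  apply Subtype.ext
  simp [mul_assoc]

theorem cj_one (lam : N →* ℂˣ) : cj N 1 lam = lam := by
  apply MonoidHom.ext
  intro n
  rw [cj_apply]
  congr 1
  apply Subtype.ext
  simp

theorem cj_of_cent {c : G} (hc : ∀ a ∈ N, c * a = a * c) (lam : N →* ℂˣ) : cj N c lam = lam := by
  apply MonoidHom.ext
  intro n
  rw [cj_apply]
  congr 1
  apply Subtype.ext
  show c * n * c⁻¹ = n
  rw [hc n n.2]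
  group

theorem cj_comm (hG : ∀ x ∈ commutator G, ∀ a ∈ N, x * a = a * x) (g h : G) (lam : N →* ℂˣ) :
    cj N g (cj N h lam) = cj N h (cj N g lam) := by
  apply MonoidHom.ext
  intro n
  rw [cj_apply, cj_apply, cj_apply, cj_apply]
  congr 1
  apply Subtype.ext
  show h * (g * n * g⁻¹) * h⁻¹ = g * (h * n * h⁻¹) * g⁻¹
  have hc : g * h * g⁻¹ * h⁻¹ ∈ commutator G := by
    rw [commutator_def]
    have h0 := Subgroup.commutator_mem_commutator (Subgroup.mem_top g) (Subgroup.mem_top h)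
    rwa [commutatorElement_def] at h0
  have hv : h * (g * n * g⁻¹) * h⁻¹ ∈ N := hN.conj_mem _ (hN.conj_mem n n.2 g) h
  have h1 := hG _ hc _ hv
  calc h * (g * n * g⁻¹) * h⁻¹
      = (h * (g * n * g⁻¹) * h⁻¹) * (g * h * g⁻¹ * h⁻¹) * (g * h * g⁻¹ * h⁻¹)⁻¹ := by group
    _ = (g * h * g⁻¹ * h⁻¹) * (h * (g * n * g⁻¹) * h⁻¹) * (g * h * g⁻¹ * h⁻¹)⁻¹ := by rw [h1]
    _ = g * (h * n * h⁻¹) * g⁻¹ := by group

theorem eq_one_of_cj [Finite G] (hab : ∀ a b : N, a * b = b * a)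
    (hcop : (Nat.card N).Coprime N.index)
    (x : G) (α κ : N →* ℂˣ)
    (hα : ∀ n : N, α ⟨x * n * x⁻¹, hN.conj_mem n n.2 x⟩ = α n)
    (hκ : ∀ n : N, κ ⟨x * n * x⁻¹, hN.conj_mem n n.2 x⟩ = α n * κ n) : ∀ n : N, α n = 1 := by
  have hpow : ∀ (j : ℕ) (n : N),
      κ ⟨x ^ j * n * (x ^ j)⁻¹, hN.conj_mem n n.2 (x ^ j)⟩ = (α n) ^ j * κ n := by
    intro j
    induction j with
    | zero =>
      intro n
      have h0 : (⟨x ^ 0 * n * (x ^ 0)⁻¹, hN.conj_mem n n.2 (x ^ 0)⟩ : N) = n := by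
        apply Subtype.ext
        simp
      rw [h0, pow_zero, one_mul]
    | succ j ih =>
      intro n
      have h1 : (⟨x ^ (j + 1) * n * (x ^ (j + 1))⁻¹, hN.conj_mem n n.2 (x ^ (j + 1))⟩ : N) =
          ⟨x ^ j * ((⟨x * n * x⁻¹, hN.conj_mem n n.2 x⟩ : N) : G) * (x ^ j)⁻¹,
            hN.conj_mem _ (hN.conj_mem n n.2 x) (x ^ j)⟩ := by
        apply Subtype.ext
        show x ^ (j + 1) * n * (x ^ (j + 1))⁻¹ = x ^ j * (x * n * x⁻¹) * (x ^ j)⁻¹
        rw [pow_succ]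
        group
      rw [h1, ih, hα, hκ, pow_succ, mul_assoc]
  intro n
  have hx : x ^ N.index ∈ N := Subgroup.pow_index_mem N x
  have h1 : (⟨x ^ N.index * n * (x ^ N.index)⁻¹, hN.conj_mem n n.2 (x ^ N.index)⟩ : N) = n := by
    apply Subtype.ext
    show x ^ N.index * n * (x ^ N.index)⁻¹ = n
    have h0 := congrArg Subtype.val (hab ⟨x ^ N.index, hx⟩ n)
    simp only [Subgroup.coe_mul] at h0
    rw [h0]
    group
  have h2 := hpow N.index n
  rw [h1] at h2
  have h3 : (α n) ^ N.index = 1 := mul_eq_right.mp h2.symm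
  have h4 : (α n) ^ Nat.card N = 1 := by
    rw [← map_pow, pow_card_eq_one', map_one]
  have h5 : orderOf (α n) ∣ Nat.gcd (Nat.card N) N.index :=
    Nat.dvd_gcd (orderOf_dvd_of_pow_eq_one h4) (orderOf_dvd_of_pow_eq_one h3)
  rw [Nat.Coprime.gcd_eq_one hcop, Nat.dvd_one, orderOf_eq_one_iff] at h5
  exact h5

end cjsec

theorem exists_hom_ne_one {A : Type u} [Group A] [Finite A] (hab : ∀ a b : A, a * b = b * a)
    {c : A} (hc : c ≠ 1) : ∃ μ : A →* ℂˣ, μ c ≠ 1 := by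
  classical
  have := Fintype.ofFinite A
  by_contra hcon
  push Not at hcon
  apply hc
  apply eq_one_of_forall_irr_eq
  intro θ
  have hθ1 : (θ : A → ℂ) 1 = 1 := irr_degree_one_of_comm hab θ.2
  obtain ⟨μ, hμ⟩ := IsIrrCharacter.exists_monoidHom θ.2 hθ1
  rw [hμ, hμ, hcon μ, map_one]

theorem units_alg (a b c l p m : ℂˣ) (E : a * (b * c⁻¹) = l * (p * m⁻¹)) :
    p * b⁻¹ = a * l⁻¹ * (m * c⁻¹) := by
  apply Units.ext
  have E' := congrArg Units.val E
  simp only [Units.val_mul, Units.val_inv_eq_inv_val] at E' ⊢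
  field_simp at E' ⊢
  linear_combination -E'

theorem exists_regular {G : Type u} [Group G] [Finite G] (N : Subgroup G) [hN : N.Normal]
    (hab : ∀ a b : N, a * b = b * a)
    (hG : ∀ x ∈ commutator G, ∀ a ∈ N, x * a = a * x) (hcop : (Nat.card N).Coprime N.index) :
    ∃ lam : N →* ℂˣ, ∀ g : G, cj N g lam = lam → ∀ a ∈ N, g * a = a * g := by
  classical
  have hcomm : ∀ (g h : G) (β : N →* ℂˣ) (n : N),
      β ⟨h * (g * n * g⁻¹) * h⁻¹, hN.conj_mem _ (hN.conj_mem n n.2 g) h⟩ =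
        β ⟨g * (h * n * h⁻¹) * g⁻¹, hN.conj_mem _ (hN.conj_mem n n.2 h) g⟩ :=
    fun g h β n => DFunLike.congr_fun (cj_comm N hG g h β) n
  have key : ∀ k : ℕ, ∀ lam : N →* ℂˣ, Set.ncard {g : G | cj N g lam = lam} = k →
      ∃ lam₀ : N →* ℂˣ, ∀ g : G, cj N g lam₀ = lam₀ → ∀ a ∈ N, g * a = a * g := by
    intro k
    induction k using Nat.strong_induction_on with
    | _ k ih =>
      intro lam hk
      by_cases hreg : ∀ g : G, cj N g lam = lam → ∀ a ∈ N, g * a = a * g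
      · exact ⟨lam, hreg⟩
      · push Not at hreg
        obtain ⟨x, hx, a, ha, hxa⟩ := hreg
        have hxp : ∀ n : N, lam ⟨x * n * x⁻¹, hN.conj_mem n n.2 x⟩ = lam n :=
          fun n => DFunLike.congr_fun hx n
        have hxaN : x * a * x⁻¹ ∈ N := hN.conj_mem a ha x
        have hc1 : (⟨x * a * x⁻¹, hxaN⟩ : N) * (⟨a, ha⟩ : N)⁻¹ ≠ 1 := by
          intro h1
          apply hxa
          have h2 := congrArg Subtype.val h1
          simp only [Subgroup.coe_mul, Subgroup.coe_inv, Subgroup.coe_one] at h2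
          calc x * a = (x * a * x⁻¹ * a⁻¹) * (a * x) := by group
            _ = a * x := by rw [h2, one_mul]
        obtain ⟨μ, hμ⟩ := exists_hom_ne_one hab hc1
        have hsub : {g : G | cj N g (lam * (cj N x μ * μ⁻¹)) = lam * (cj N x μ * μ⁻¹)} ⊆
            {g : G | cj N g lam = lam} := by
          intro y hy
          have hy' : cj N y (lam * (cj N x μ * μ⁻¹)) = lam * (cj N x μ * μ⁻¹) := hy
          have hE : ∀ n : N, lam ⟨y * n * y⁻¹, hN.conj_mem n n.2 y⟩ *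
              (μ ⟨x * (y * n * y⁻¹) * x⁻¹, hN.conj_mem _ (hN.conj_mem n n.2 y) x⟩ *
                (μ ⟨y * n * y⁻¹, hN.conj_mem n n.2 y⟩)⁻¹) =
              lam n * (μ ⟨x * n * x⁻¹, hN.conj_mem n n.2 x⟩ * (μ n)⁻¹) :=
            fun n => DFunLike.congr_fun hy' n
          have h1 : ∀ n : N, (cj N y lam * lam⁻¹) ⟨x * n * x⁻¹, hN.conj_mem n n.2 x⟩ =
              (cj N y lam * lam⁻¹) n := by
            intro n
            show lam ⟨y * (x * n * x⁻¹) * y⁻¹, hN.conj_mem _ (hN.conj_mem n n.2 x) y⟩ *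
              (lam ⟨x * n * x⁻¹, hN.conj_mem n n.2 x⟩)⁻¹ =
              lam ⟨y * n * y⁻¹, hN.conj_mem n n.2 y⟩ * (lam n)⁻¹
            rw [hcomm x y lam n, hxp ⟨y * n * y⁻¹, hN.conj_mem n n.2 y⟩, hxp n]
          have h2 : ∀ n : N, (μ * (cj N y μ)⁻¹) ⟨x * n * x⁻¹, hN.conj_mem n n.2 x⟩ =
              (cj N y lam * lam⁻¹) n * (μ * (cj N y μ)⁻¹) n := by
            intro n
            show μ ⟨x * n * x⁻¹, hN.conj_mem n n.2 x⟩ *
              (μ ⟨y * (x * n * x⁻¹) * y⁻¹, hN.conj_mem _ (hN.conj_mem n n.2 x) y⟩)⁻¹ =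
              lam ⟨y * n * y⁻¹, hN.conj_mem n n.2 y⟩ * (lam n)⁻¹ *
                (μ n * (μ ⟨y * n * y⁻¹, hN.conj_mem n n.2 y⟩)⁻¹)
            rw [hcomm x y μ n]
            exact units_alg _ _ _ _ _ _ (hE n)
          have h5 := eq_one_of_cj N hab hcop x _ _ h1 h2
          show cj N y lam = lam
          apply MonoidHom.ext
          intro n
          have h6 : lam ⟨y * n * y⁻¹, hN.conj_mem n n.2 y⟩ * (lam n)⁻¹ = 1 := h5 n
          exact mul_inv_eq_one.mp h6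
        have hx' : x ∉ {g : G | cj N g (lam * (cj N x μ * μ⁻¹)) = lam * (cj N x μ * μ⁻¹)} := by
          intro hxν
          have hxν' : cj N x (lam * (cj N x μ * μ⁻¹)) = lam * (cj N x μ * μ⁻¹) := hxν
          have hE : ∀ n : N, lam ⟨x * n * x⁻¹, hN.conj_mem n n.2 x⟩ *
              ((cj N x μ * μ⁻¹) ⟨x * n * x⁻¹, hN.conj_mem n n.2 x⟩) =
              lam n * ((cj N x μ * μ⁻¹) n) :=
            fun n => DFunLike.congr_fun hxν' n
          have h6 : ∀ n : N, (cj N x μ * μ⁻¹) ⟨x * n * x⁻¹, hN.conj_mem n n.2 x⟩ =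
              (cj N x μ * μ⁻¹) n := by
            intro n
            have h7 := hE n
            rw [hxp n] at h7
            exact mul_left_cancel h7
          have h7 : ∀ n : N, μ ⟨x * n * x⁻¹, hN.conj_mem n n.2 x⟩ =
              (cj N x μ * μ⁻¹) n * μ n := by
            intro n
            show μ ⟨x * n * x⁻¹, hN.conj_mem n n.2 x⟩ =
              μ ⟨x * n * x⁻¹, hN.conj_mem n n.2 x⟩ * (μ n)⁻¹ * μ n
            rw [inv_mul_cancel_right]
          have h8 := eq_one_of_cj N hab hcop x _ μ h6 h7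
          apply hμ
          have h9 : μ ⟨x * a * x⁻¹, hxaN⟩ * (μ ⟨a, ha⟩)⁻¹ = 1 := h8 ⟨a, ha⟩
          rw [map_mul, map_inv]
          exact h9
        have hlt : Set.ncard {g : G | cj N g (lam * (cj N x μ * μ⁻¹)) = lam * (cj N x μ * μ⁻¹)}
            < k := by
          rw [← hk]
          apply Set.ncard_lt_ncard _ (Set.toFinite _)
          exact ⟨hsub, fun h => hx' (h hx)⟩
        exact ih _ hlt _ rfl
  exact key _ 1 rfl

theorem exists_extension_central {C : Type u} [Group C] [Finite C] (N : Subgroup C)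
    (hcent : ∀ n ∈ N, ∀ c : C, n * c = c * n) (hcop : (Nat.card N).Coprime N.index)
    (lam : N →* ℂˣ) : ∃ lamh : C →* ℂˣ, ∀ n : N, lamh n = lam n := by
  classical
  have hVn : ∀ n : N, MonoidHom.transfer lam (n : C) = (lam n) ^ N.index := by
    intro n
    have key : ∀ (k : ℕ) (g₀ : C), g₀⁻¹ * (n : C) ^ k * g₀ ∈ N →
        g₀⁻¹ * (n : C) ^ k * g₀ = (n : C) ^ k := by
      intro k g₀ _
      have h1 := hcent _ (N.pow_mem n.2 k) g₀
      rw [mul_assoc, h1]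
      group
    rw [MonoidHom.transfer_eq_pow lam (n : C) key, ← map_pow]
    congr 1
  have hb := Nat.gcd_eq_gcd_ab N.index (Nat.card N)
  rw [Nat.Coprime.gcd_eq_one hcop.symm] at hb
  refine ⟨(zpowGroupHom (Nat.gcdA N.index (Nat.card N))).comp (MonoidHom.transfer lam),
    fun n => ?_⟩
  rw [MonoidHom.comp_apply, hVn]
  show ((lam n) ^ N.index) ^ (Nat.gcdA N.index (Nat.card N)) = lam n
  have h2 : (lam n) ^ (Nat.card N) = 1 := by
    rw [← map_pow, pow_card_eq_one', map_one]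
  have h3 : (N.index : ℤ) * Nat.gcdA N.index (Nat.card N) =
      1 - (Nat.card N : ℤ) * Nat.gcdB N.index (Nat.card N) := by
    push_cast at hb
    linarith
  rw [← zpow_natCast, ← zpow_mul, h3, zpow_sub, zpow_one, zpow_mul, zpow_natCast, h2, one_zpow,
    inv_one, mul_one]

theorem indFun_irr_of_stab {G : Type u} [Group G] [Fintype G] (H : Subgroup G) [hH : H.Normal]
    {θ : H → ℂ} (hθ : Cfsg.IsIrrCharacter H θ)
    (hstab : ∀ g : G, (∀ h : H, θ ⟨g * h * g⁻¹, hH.conj_mem h h.2 g⟩ = θ h) → g ∈ H) :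
    Cfsg.IsIrrCharacter G (Cfsg.indFun H θ) := by
  classical
  apply IsCharacter.isIrr_of_classInner_self
    (indFun_isCharacter H (IsIrrCharacter.isCharacter hθ))
  have h1 := Cfsg.Agent.S0193.result H θ hθ
  have h2 : Nat.card {g : G // ∀ h : H, θ ⟨g * h * g⁻¹, hH.conj_mem h h.2 g⟩ = θ h} =
      Nat.card H := by
    apply Nat.card_congr
    refine Equiv.subtypeEquivRight (fun g => ⟨hstab g, fun hg h => ?_⟩)
    exact (IsIrrCharacter.isClassFunction hθ) h ⟨g, hg⟩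
  rw [h2] at h1
  have hne : (Nat.card H : ℂ) ≠ 0 := by
    have := Nat.card_pos (α := H)
    exact_mod_cast this.ne'
  exact mul_left_cancel₀ hne (h1.trans (mul_one _).symm)

theorem comm_of_commutator_mem {G : Type u} [Group G] [Finite G] (N : Subgroup G) [N.Normal]
    (hcop : (Nat.card N).Coprime N.index) {a b : G} (hc : a * b * a⁻¹ * b⁻¹ ∈ N)
    (ha : ∀ n ∈ N, a * n = n * a) (hb : ∀ n ∈ N, b * n = n * b) : a * b = b * a := by
  have hca : a * (a * b * a⁻¹ * b⁻¹) = (a * b * a⁻¹ * b⁻¹) * a := ha _ hc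
  have hpow : ∀ j : ℕ, a ^ j * b * (a ^ j)⁻¹ * b⁻¹ = (a * b * a⁻¹ * b⁻¹) ^ j := by
    intro j
    induction j with
    | zero => simp
    | succ j ih =>
      have h7 : a ^ (j + 1) * b * (a ^ (j + 1))⁻¹ * b⁻¹ =
          a * (a ^ j * b * (a ^ j)⁻¹ * b⁻¹) * (a⁻¹ * (a * b * a⁻¹ * b⁻¹)) := by
        rw [pow_succ']
        group
      rw [h7, ih]
      have hcj : a * (a * b * a⁻¹ * b⁻¹) ^ j = (a * b * a⁻¹ * b⁻¹) ^ j * a :=
        (Commute.pow_right (show Commute a (a * b * a⁻¹ * b⁻¹) from hca) j).eq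
      rw [hcj, mul_assoc, ← mul_assoc a, mul_inv_cancel, one_mul, ← pow_succ]
  have hak : a ^ N.index ∈ N := Subgroup.pow_index_mem N a
  have h6 : (a * b * a⁻¹ * b⁻¹) ^ N.index = 1 := by
    rw [← hpow]
    have h7 := hb _ hak
    calc a ^ N.index * b * (a ^ N.index)⁻¹ * b⁻¹
        = (b * a ^ N.index) * (a ^ N.index)⁻¹ * b⁻¹ := by rw [h7]
      _ = 1 := by group
  have h8 : (a * b * a⁻¹ * b⁻¹) ^ Nat.card N = 1 := by
    have h9 : (⟨a * b * a⁻¹ * b⁻¹, hc⟩ : N) ^ Nat.card N = 1 := pow_card_eq_one'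
    have h10 : (((⟨a * b * a⁻¹ * b⁻¹, hc⟩ : N) ^ Nat.card N : N) : G) = ((1 : N) : G) :=
      congrArg Subtype.val h9
    rw [Subgroup.coe_pow, Subgroup.coe_one] at h10
    exact h10
  have h9 : orderOf (a * b * a⁻¹ * b⁻¹) ∣ Nat.gcd (Nat.card N) N.index :=
    Nat.dvd_gcd (orderOf_dvd_of_pow_eq_one h8) (orderOf_dvd_of_pow_eq_one h6)
  rw [Nat.Coprime.gcd_eq_one hcop, Nat.dvd_one, orderOf_eq_one_iff] at h9
  calc a * b = (a * b * a⁻¹ * b⁻¹) * (b * a) := by group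
    _ = b * a := by rw [h9, one_mul]

theorem degree_dvd_index_of_abelian {G : Type u} [Group G] [Finite G] (A : Subgroup G)
    [A.Normal] (hab : ∀ a ∈ A, ∀ b ∈ A, a * b = b * a) {χ : G → ℂ}
    (hχ : Cfsg.IsIrrCharacter G χ) {d : ℕ} (hd : χ 1 = d) : d ∣ A.index := by
  have := Fintype.ofFinite G
  obtain ⟨n, ρ, hρ, rfl⟩ := hχ
  have := hρ
  have h1 := ito ρ A hab
  rw [Representation.char_one] at hd
  have h2 : Module.finrank ℂ (Fin n → ℂ) = d := by exact_mod_cast hd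
  rw [← h2]
  exact h1

end Cfsg.Agent.Lib.Helper23.TwoDeg
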