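import Mathlib
import Cfsg.Agent.Lib.Helper1.CharFrobThm
import Cfsg.Agent.Lib.Helper1.CharMisc
import Cfsg.Agent.Lib.Helper1.CharCoset
import Cfsg.Agent.Lib.Helper23.TwoDeg3
import Cfsg.Agent.S4456

set_option autoImplicit false
set_option linter.unusedSectionVars false
set_option linter.unusedVariables false

namespace Cfsg.Agent.Lib.Helper23.BG

open Cfsg.Agent.Lib.Helper1 Cfsg.Agent.Lib.Helper23.TwoDeg
open scoped ComplexConjugate

universe u

section rep

variable {G : Type u} [Group G] {V : Type*} [AddCommGroup V] [Module ℂ V]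

theorem irr_comp_of_cover (ρ : Representation ℂ G V) (M : Subgroup G)
    (hcov : ∀ g : G, ∃ m : M, ρ g = ρ m) (h : ρ.IsIrreducible) :
    Representation.IsIrreducible (ρ.comp M.subtype) := by
  have hnt := h.toNontrivial
  refine { exists_pair_ne := ?_, eq_bot_or_eq_top := ?_ }
  · obtain ⟨a, b, hab⟩ := hnt.exists_pair_ne
    refine ⟨⊥, ⊤, ?_⟩
    intro hbt
    apply hab
    apply Subrepresentation.toSubmodule_injective
    have h1 : (⊥ : Submodule ℂ V) = ⊤ := congrArg Subrepresentation.toSubmodule hbt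
    have h2 : ∀ s : Submodule ℂ V, s = ⊥ := fun s => le_antisymm (by rw [h1]; exact le_top) bot_le
    rw [h2 a.toSubmodule, h2 b.toSubmodule]
  · intro σ
    let σ' : Subrepresentation ρ :=
      ⟨σ.toSubmodule, fun g v hv => by
        obtain ⟨m, hm⟩ := hcov g
        rw [hm]
        exact σ.apply_mem_toSubmodule m hv⟩
    rcases h.eq_bot_or_eq_top σ' with h1 | h1
    · left
      apply Subrepresentation.toSubmodule_injective
      have h2 : σ'.toSubmodule = (⊥ : Submodule ℂ V) := congrArg Subrepresentation.toSubmodule h1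
      exact h2
    · right
      apply Subrepresentation.toSubmodule_injective
      have h2 : σ'.toSubmodule = (⊤ : Submodule ℂ V) := congrArg Subrepresentation.toSubmodule h1
      exact h2

end rep

section char

variable {G : Type u} [Group G] [Fintype G]

theorem restrict_irr {χ : G → ℂ} (hχ : Cfsg.IsIrrCharacter G χ) (L M : Subgroup G) [L.Normal]
    (hL : ∀ k ∈ L, χ k = χ 1) (hsup : L ⊔ M = ⊤) :
    Cfsg.IsIrrCharacter M (fun m : M => χ m) := by
  obtain ⟨n, ρ, hρ, rfl⟩ := hχ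
  refine ⟨n, ρ.comp M.subtype, irr_comp_of_cover ρ M ?_ hρ, ?_⟩
  · intro g
    have hg : g ∈ L ⊔ M := by
      rw [hsup]
      exact Subgroup.mem_top g
    obtain ⟨k, hk, m, hm, rfl⟩ := Subgroup.mem_sup_of_normal_left.1 hg
    refine ⟨⟨m, hm⟩, ?_⟩
    have h1 := hL k hk
    rw [Representation.char_one ρ, char_eq_finrank_iff] at h1
    rw [map_mul, h1]
    rfl
  · funext m
    rfl

theorem cdeg_eq {X : Type u} [Group X] {χ : X → ℂ} {d : ℕ} (h : χ 1 = d) :
    Cfsg.charDegree χ = d := by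
  unfold Cfsg.charDegree
  rw [h]
  simp

theorem constituent_facts {X : Type u} [Group X] [Fintype X] {Φ θ : X → ℂ}
    (hΦ : Cfsg.IsCharacter X Φ) (hθ : Cfsg.IsIrrCharacter X θ)
    (hc : Cfsg.classInner Φ θ ≠ 0) :
    Cfsg.charDegree θ ≤ Cfsg.charDegree Φ ∧ ∀ x : X, Φ x = Φ 1 → θ x = θ 1 := by
  classical
  have : Fintype (Cfsg.IrrCharacter X) := irrFintype
  obtain ⟨m, hm1, hm2⟩ := IsCharacter.eq_sum_irr hΦ
  have hdegs : ∀ φ : Cfsg.IrrCharacter X, ∃ n : ℕ, 0 < n ∧ (φ : X → ℂ) 1 = (n : ℂ) :=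
    fun φ => IsIrrCharacter.degree_pos φ.2
  choose n hnpos hn using hdegs
  have hmθ : m ⟨θ, hθ⟩ ≠ 0 := by
    intro h
    apply hc
    have h3 := hm1 ⟨θ, hθ⟩
    rw [h] at h3
    simpa using h3
  have hval : ∀ x : X, Φ x = ∑ φ : Cfsg.IrrCharacter X, (m φ : ℂ) * (φ : X → ℂ) x := by
    intro x
    have h1 := congrFun hm2 x
    rw [Finset.sum_apply] at h1
    simpa using h1
  constructor
  · have h2 : Φ 1 = ((∑ φ : Cfsg.IrrCharacter X, m φ * n φ : ℕ) : ℂ) := by
      rw [hval 1]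
      push_cast
      refine Finset.sum_congr rfl (fun φ _ => ?_)
      rw [hn φ]
    rw [cdeg_eq h2, cdeg_eq (hn ⟨θ, hθ⟩)]
    calc n ⟨θ, hθ⟩ ≤ m ⟨θ, hθ⟩ * n ⟨θ, hθ⟩ :=
          Nat.le_mul_of_pos_left _ (Nat.pos_of_ne_zero hmθ)
      _ ≤ ∑ φ : Cfsg.IrrCharacter X, m φ * n φ :=
          Finset.single_le_sum (f := fun φ : Cfsg.IrrCharacter X => m φ * n φ)
            (fun _ _ => Nat.zero_le _) (Finset.mem_univ _)
  · intro x hx
    have h1 := hval x
    rw [hx, hval 1] at h1
    have hre : ∀ φ : Cfsg.IrrCharacter X, ((φ : X → ℂ) x).re ≤ n φ := by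
      intro φ
      have h4 := normSq_le φ.2 (hn φ) x
      rw [Complex.normSq_apply] at h4
      have hn0 : (0 : ℝ) ≤ n φ := Nat.cast_nonneg _
      nlinarith [mul_self_nonneg ((φ : X → ℂ) x).im]
    have h3 : ∑ φ : Cfsg.IrrCharacter X, (m φ : ℝ) * ((n φ : ℝ) - ((φ : X → ℂ) x).re) = 0 := by
      have h5 := congrArg Complex.re h1
      simp only [Complex.re_sum, Complex.mul_re, Complex.natCast_re, Complex.natCast_im,
        zero_mul, sub_zero] at h5
      have h6 : ∑ φ : Cfsg.IrrCharacter X, (m φ : ℝ) * ((n φ : ℝ) - ((φ : X → ℂ) x).re) =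
          ∑ φ : Cfsg.IrrCharacter X, (m φ : ℝ) * ((φ : X → ℂ) 1).re -
          ∑ φ : Cfsg.IrrCharacter X, (m φ : ℝ) * ((φ : X → ℂ) x).re := by
        rw [← Finset.sum_sub_distrib]
        refine Finset.sum_congr rfl (fun φ _ => ?_)
        rw [hn φ]
        simp
        ring
      rw [h6, h5, sub_self]
    have h5 := (Finset.sum_eq_zero_iff_of_nonneg (fun φ _ =>
      mul_nonneg (Nat.cast_nonneg _) (sub_nonneg.2 (hre φ)))).1 h3 ⟨θ, hθ⟩ (Finset.mem_univ _)
    have h6 : (θ x).re = n ⟨θ, hθ⟩ := by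
      rcases mul_eq_zero.1 h5 with h | h
      · exact absurd (by exact_mod_cast h) hmθ
      · have h' : (n ⟨θ, hθ⟩ : ℝ) - (θ x).re = 0 := h
        linarith
    have h7 := normSq_le hθ (hn ⟨θ, hθ⟩) x
    rw [Complex.normSq_apply, h6] at h7
    have h8 : (θ x).im = 0 := by
      have h9 : (θ x).im * (θ x).im ≤ 0 := by nlinarith
      have h10 := mul_self_nonneg (θ x).im
      exact mul_self_eq_zero.1 (le_antisymm h9 h10)
    have hθ1 : θ 1 = (n ⟨θ, hθ⟩ : ℂ) := hn ⟨θ, hθ⟩
    rw [hθ1]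
    apply Complex.ext
    · simp [h6]
    · simp [h8]

theorem sum_normal_eq_zero {χ : G → ℂ} (hχ : Cfsg.IsIrrCharacter G χ) (N : Subgroup G)
    [N.Normal] [Fintype N] {x : G} (hx : x ∈ N) (hne : χ x ≠ χ 1) : ∑ n : N, χ n = 0 := by
  classical
  by_contra h
  have h1 : Cfsg.classInner (Cfsg.indFun N (fun _ => (1 : ℂ))) χ ≠ 0 := by
    rw [frobenius_reciprocity N _ (IsIrrCharacter.isClassFunction hχ)]
    unfold Cfsg.classInner
    have hN : (Nat.card N : ℂ) ≠ 0 := by exact_mod_cast Nat.card_pos.ne'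
    refine mul_ne_zero (inv_ne_zero hN) ?_
    have h2 : ∑ g : N, (1 : ℂ) * conj (χ g) = conj (∑ g : N, χ g) := by
      rw [map_sum]
      refine Finset.sum_congr rfl (fun g _ => ?_)
      rw [one_mul]
    rw [h2]
    exact (map_ne_zero (starRingEnd ℂ)).mpr h
  have h2 := source_periodic N ⟨hχ, h1⟩ x hx 1
  rw [mul_one] at h2
  exact hne h2

theorem vanish_of_no_large {χ : G → ℂ} (hχ : Cfsg.IsIrrCharacter G χ) (M : Subgroup G)
    (hϑ : Cfsg.IsIrrCharacter M (fun m : M => χ m))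
    (hno : ∀ ψ : G → ℂ, Cfsg.IsIrrCharacter G ψ →
      Cfsg.classInner (Cfsg.indFun M (fun m : M => χ m)) ψ ≠ 0 →
      Cfsg.charDegree ψ ≤ Cfsg.charDegree χ)
    {v : G} (hv : v ∈ M) {x : G} (hx : x⁻¹ * v * x ∉ M) : χ v = 0 := by
  classical
  have : Fintype (Cfsg.IrrCharacter G) := irrFintype
  have hΦ : Cfsg.IsCharacter G (Cfsg.indFun M (fun m : M => χ m)) :=
    indFun_isCharacter M (IsIrrCharacter.isCharacter hϑ)
  obtain ⟨m, hm1, hm2⟩ := IsCharacter.eq_sum_irr hΦ
  have hres : ∀ ψ : Cfsg.IrrCharacter G, m ψ ≠ 0 → ∀ w : M, (ψ : G → ℂ) w = χ w := by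
    intro ψ hmψ w
    have hc : Cfsg.classInner (Cfsg.indFun M (fun m : M => χ m)) (ψ : G → ℂ) ≠ 0 := by
      rw [hm1 ψ]
      exact_mod_cast hmψ
    have hc2 : Cfsg.classInner (fun m : M => (ψ : G → ℂ) m) (fun m : M => χ m) ≠ 0 := by
      rw [frobenius_reciprocity M _ (IsIrrCharacter.isClassFunction ψ.2),
        ← classInner_conj_symm] at hc
      intro h0
      rw [h0, map_zero] at hc
      exact hc rfl
    have hψM : Cfsg.IsCharacter M (fun m : M => (ψ : G → ℂ) m) :=
      IsCharacter.restrict (IsIrrCharacter.isCharacter ψ.2) M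
    have hd1 := (constituent_facts hψM hϑ hc2).1
    have hd2 := hno ψ ψ.2 hc
    have e1 : Cfsg.charDegree (fun m : M => (ψ : G → ℂ) m) = Cfsg.charDegree (ψ : G → ℂ) := rfl
    have e2 : Cfsg.charDegree (fun m : M => χ m) = Cfsg.charDegree χ := rfl
    rw [e1, e2] at hd1
    have hd3 : Cfsg.charDegree (ψ : G → ℂ) = Cfsg.charDegree χ := le_antisymm hd2 hd1
    have hdeg : (fun m : M => (ψ : G → ℂ) m) 1 = (fun m : M => χ m) 1 := by
      show (ψ : G → ℂ) 1 = χ 1
      rw [Cfsg.Agent.S4456.degree_eq (IsIrrCharacter.isCharacter ψ.2),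
        Cfsg.Agent.S4456.degree_eq (IsIrrCharacter.isCharacter hχ), hd3]
    exact congrFun (eq_of_constituent hψM hϑ hc2 hdeg) w
  have hval : ∀ w : M, Cfsg.indFun M (fun m : M => χ m) w =
      (∑ ψ : Cfsg.IrrCharacter G, (m ψ : ℂ)) * χ w := by
    intro w
    have h1 := congrFun hm2 w
    rw [Finset.sum_apply] at h1
    rw [h1, Finset.sum_mul]
    refine Finset.sum_congr rfl (fun ψ _ => ?_)
    by_cases hmψ : m ψ = 0
    · simp [hmψ]
    · simp only [Pi.smul_apply, smul_eq_mul]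
      rw [hres ψ hmψ w]
  obtain ⟨d, hdpos, hd⟩ := IsIrrCharacter.degree_pos hχ
  have hχ1 : χ 1 ≠ 0 := by
    rw [hd]
    exact_mod_cast hdpos.ne'
  have hT : (∑ ψ : Cfsg.IrrCharacter G, (m ψ : ℂ)) = (M.index : ℂ) := by
    have h1 := hval 1
    rw [show ((1 : M) : G) = 1 from rfl, Cfsg.Agent.S4456.indFun_one] at h1
    exact (mul_right_cancel₀ hχ1 h1).symm
  by_contra hχv
  have h2 := hval ⟨v, hv⟩
  rw [indFun_restrict_char M (IsIrrCharacter.isClassFunction hχ) v, hT] at h2
  have h3 := mul_right_cancel₀ hχv h2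
  have hM : (Nat.card M : ℂ) ≠ 0 := by exact_mod_cast Nat.card_pos.ne'
  have h4 : ((Finset.univ.filter (fun y : G => y⁻¹ * v * y ∈ M)).card : ℂ) =
      ((Nat.card M * M.index : ℕ) : ℂ) := by
    push_cast
    rw [← h3]
    field_simp
  have h5 : (Finset.univ.filter (fun y : G => y⁻¹ * v * y ∈ M)).card = Nat.card G := by
    rw [← Subgroup.card_mul_index M]
    exact_mod_cast h4
  have h6 : (Finset.univ.filter (fun y : G => y⁻¹ * v * y ∈ M)) = Finset.univ := by
    apply Finset.eq_univ_of_card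
    rw [h5, Nat.card_eq_fintype_card]
  have h7 : x ∈ Finset.univ.filter (fun y : G => y⁻¹ * v * y ∈ M) := by
    rw [h6]
    exact Finset.mem_univ x
  exact hx (Finset.mem_filter.1 h7).2

theorem ker_lt {χ : G → ℂ} (hχ : Cfsg.IsIrrCharacter G χ) (K : Subgroup G) [K.Normal]
    (hK : ∀ g : G, g ∈ K ↔ χ g = χ 1) (M : Subgroup G) (hM : IsCoatom M) (hsup : K ⊔ M = ⊤)
    {ψ : G → ℂ} (hψ : Cfsg.IsIrrCharacter G ψ)
    (hc : Cfsg.classInner (Cfsg.indFun M (fun m : M => χ m)) ψ ≠ 0)
    (hdeg : Cfsg.charDegree χ < Cfsg.charDegree ψ) :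
    charKer ψ (IsIrrCharacter.isCharacter hψ) < K := by
  classical
  have hϑ := restrict_irr hχ K M (fun k hk => (hK k).1 hk) hsup
  have hc' : Cfsg.classInner (fun m : M => ψ m) (fun m : M => χ m) ≠ 0 := by
    rw [frobenius_reciprocity M _ (IsIrrCharacter.isClassFunction hψ),
      ← classInner_conj_symm] at hc
    intro h0
    rw [h0, map_zero] at hc
    exact hc rfl
  have hψM : Cfsg.IsCharacter M (fun m : M => ψ m) :=
    IsCharacter.restrict (IsIrrCharacter.isCharacter hψ) M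
  have hnotirr : ¬ Cfsg.IsIrrCharacter M (fun m : M => ψ m) := by
    intro hirr
    have h1 := classInner_irr hirr hϑ
    by_cases he : (fun m : M => ψ m) = (fun m : M => χ m)
    · have h2 : ψ 1 = χ 1 := congrFun he 1
      have h3 : Cfsg.charDegree ψ = Cfsg.charDegree χ := by
        unfold Cfsg.charDegree
        rw [h2]
      omega
    · rw [if_neg he] at h1
      exact hc' h1
  have hLn : (charKer ψ (IsIrrCharacter.isCharacter hψ)).Normal := charKer_normal _
  have hLM : charKer ψ (IsIrrCharacter.isCharacter hψ) ≤ M := by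
    by_contra hnle
    have hsup' : charKer ψ (IsIrrCharacter.isCharacter hψ) ⊔ M = ⊤ := by
      have hlt : M < charKer ψ (IsIrrCharacter.isCharacter hψ) ⊔ M := by
        refine lt_of_le_of_ne le_sup_right (fun h => hnle ?_)
        rw [h]
        exact le_sup_left
      exact hM.2 _ hlt
    exact hnotirr (restrict_irr hψ _ M (fun k hk => (mem_charKer _).1 hk) hsup')
  have hLK : charKer ψ (IsIrrCharacter.isCharacter hψ) ≤ K := by
    intro l hl
    rw [hK]
    have h1 : ψ l = ψ 1 := (mem_charKer _).1 hl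
    exact (constituent_facts hψM hϑ hc').2 ⟨l, hLM hl⟩ h1
  refine lt_of_le_of_ne hLK ?_
  intro hLK'
  refine hnotirr (restrict_irr hψ K M (fun k hk => ?_) hsup)
  rw [← hLK'] at hk
  exact (mem_charKer _).1 hk

theorem main {χ : G → ℂ} (hχ : Cfsg.IsIrrCharacter G χ) (K : Subgroup G) [K.Normal]
    (hK : ∀ g : G, g ∈ K ↔ χ g = χ 1) (M : Subgroup G) (hM : IsCoatom M) (hsup : K ⊔ M = ⊤)
    {v : G} (hv : v ∈ M) {x : G} (hx : x⁻¹ * v * x ∉ M) (hne : χ v ≠ 0) :
    ∃ ψ : G → ℂ, ∃ hψ : Cfsg.IsIrrCharacter G ψ, Cfsg.charDegree χ < Cfsg.charDegree ψ ∧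
      charKer ψ (IsIrrCharacter.isCharacter hψ) < K := by
  by_contra hcon
  apply hne
  refine vanish_of_no_large hχ M (restrict_irr hχ K M (fun k hk => (hK k).1 hk) hsup) ?_ hv hx
  intro ψ hψ hc
  by_contra hlt
  exact hcon ⟨ψ, hψ, not_le.1 hlt, ker_lt hχ K hK M hM hsup hψ hc (not_le.1 hlt)⟩

end char

section grp

variable {G : Type u} [Group G] [Finite G]

theorem frattini_descend {p : ℕ} [Fact p.Prime] (H N : Subgroup G) [N.Normal]
    (hNH : N ≤ H) (P : Sylow p H) (hPN : (P : Subgroup H).map H.subtype ≤ N) :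
    Subgroup.normalizer (((P : Subgroup H).map H.subtype : Subgroup G) : Set G) ⊔ N = ⊤ := by
  have hQp : IsPGroup p (((P : Subgroup H).map H.subtype).subgroupOf N) :=
    (P.isPGroup'.map H.subtype).comap_subtype
  obtain ⟨P1, hP1⟩ := hQp.exists_le_sylow
  have h1 : (P : Subgroup H).map H.subtype ≤ (P1 : Subgroup N).map N.subtype := by
    intro x hx
    exact ⟨⟨x, hPN hx⟩, hP1 (Subgroup.mem_subgroupOf.2 hx), rfl⟩
  have h2 : (P1 : Subgroup N).map N.subtype = (P : Subgroup H).map H.subtype := by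
    have hp1 : IsPGroup p (((P1 : Subgroup N).map N.subtype).subgroupOf H) :=
      (P1.isPGroup'.map N.subtype).comap_subtype
    have hle : (P : Subgroup H) ≤ ((P1 : Subgroup N).map N.subtype).subgroupOf H := by
      intro y hy
      rw [Subgroup.mem_subgroupOf]
      exact h1 ⟨y, hy, rfl⟩
    have heq := P.is_maximal' hp1 hle
    apply le_antisymm
    · intro x hx
      have hxH : x ∈ H := hNH ((Subgroup.map_subtype_le _) hx)
      have h3 : (⟨x, hxH⟩ : H) ∈ ((P1 : Subgroup N).map N.subtype).subgroupOf H :=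
        Subgroup.mem_subgroupOf.2 hx
      rw [heq] at h3
      exact ⟨⟨x, hxH⟩, h3, rfl⟩
    · exact h1
  have h3 := Sylow.normalizer_sup_eq_top P1
  rw [h2] at h3
  exact h3

theorem case1 (K : Subgroup G) [hKn : K.Normal] (hK : ¬ K ≤ Cfsg.fittingSubgroup G) :
    ∃ (p : ℕ) (hp : Fact p.Prime) (P : Sylow p K),
      ¬ ((P : Subgroup K).map K.subtype).Normal := by
  have hnil : ¬ Group.IsNilpotent K := by
    intro hnil
    exact hK (le_sSup ⟨hKn, hnil⟩)
  have htfae := (Group.isNilpotent_of_finite_tfae (G := K)).out 0 3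
  rw [htfae] at hnil
  push Not at hnil
  obtain ⟨p, hp, P, hP⟩ := hnil
  refine ⟨p, hp, P, fun hn => hP ?_⟩
  have h1 := hn.subgroupOf K
  have h2 : ((P : Subgroup K).map K.subtype).subgroupOf K = (P : Subgroup K) :=
    Subgroup.comap_map_eq_self_of_injective (Subgroup.subtype_injective K) _
  rw [h2] at h1
  exact h1

theorem case2 (K : Subgroup G) [hKn : K.Normal]
    (hF : K = Cfsg.fittingSubgroup G) (hsolv : Group.IsSolvable (G ⧸ K)) (hK : K ≠ ⊤) :
    ∃ (F : Subgroup G) (hFn : F.Normal) (p : ℕ) (hp : Fact p.Prime) (P : Sylow p F),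
      ¬ F ≤ K ∧ (∀ N : Subgroup G, N.Normal → N ≤ F → ¬ N ≤ K → N = F) ∧
      F = (F ⊓ K) ⊔ (P : Subgroup F).map F.subtype ∧
      ¬ ((P : Subgroup F).map F.subtype).Normal := by
  have hne : ({N : Subgroup G | N.Normal ∧ ¬ N ≤ K}).Nonempty :=
    ⟨⊤, Subgroup.normal_top, fun h => hK (top_le_iff.1 h)⟩
  obtain ⟨F, ⟨hFn, hFK⟩, hmin⟩ := wellFounded_lt.has_min _ hne
  have hmin' : ∀ N : Subgroup G, N.Normal → N ≤ F → ¬ N ≤ K → N = F := by
    intro N hN hNF hNK
    by_contra hne
    exact hmin N ⟨hN, hNK⟩ (lt_of_le_of_ne hNF hne)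
  have hcomm : ⁅F, F⁆ ≤ K := by
    by_contra hnot
    have hD : ⁅F, F⁆ = F :=
      hmin' _ (Subgroup.commutator_normal F F) (Subgroup.commutator_le_right F F) hnot
    obtain ⟨n, hn⟩ := (Group.isSolvable_def (G ⧸ K)).1 hsolv
    have hall : ∀ i, F.map (QuotientGroup.mk' K) ≤ derivedSeries (G ⧸ K) i := by
      intro i
      induction i with
      | zero => rw [derivedSeries_zero]; exact le_top
      | succ i ih =>
        rw [derivedSeries_succ]
        calc F.map (QuotientGroup.mk' K) = (⁅F, F⁆).map (QuotientGroup.mk' K) := by rw [hD]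
          _ = ⁅F.map (QuotientGroup.mk' K), F.map (QuotientGroup.mk' K)⁆ :=
              Subgroup.map_commutator F F _
          _ ≤ ⁅derivedSeries (G ⧸ K) i, derivedSeries (G ⧸ K) i⁆ :=
              Subgroup.commutator_mono ih ih
    have h1 := hall n
    rw [hn, le_bot_iff] at h1
    apply hFK
    intro x hx
    have h2 : QuotientGroup.mk' K x ∈ F.map (QuotientGroup.mk' K) :=
      Subgroup.mem_map_of_mem _ hx
    rw [h1, Subgroup.mem_bot] at h2
    exact (QuotientGroup.eq_one_iff x).1 h2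
  have hidx : (K.subgroupOf F).index ≠ 1 := by
    rw [Ne, Subgroup.index_eq_one, Subgroup.subgroupOf_eq_top]
    exact hFK
  have hp : Fact (K.subgroupOf F).index.minFac.Prime := ⟨Nat.minFac_prime hidx⟩
  obtain ⟨P⟩ : Nonempty (Sylow (K.subgroupOf F).index.minFac F) := inferInstance
  have hQK : ¬ (P : Subgroup F).map F.subtype ≤ K := by
    intro hle
    have h1 : (P : Subgroup F) ≤ K.subgroupOf F := by
      intro y hy
      rw [Subgroup.mem_subgroupOf]
      exact hle ⟨y, hy, rfl⟩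
    have h2 := Subgroup.index_dvd_of_le h1
    exact P.not_dvd_index (dvd_trans (Nat.minFac_dvd _) h2)
  have hQF : (P : Subgroup F).map F.subtype ≤ F := Subgroup.map_subtype_le _
  have hfr : Subgroup.normalizer (((P : Subgroup F).map F.subtype : Subgroup G) : Set G) ⊔ F = ⊤ :=
    Sylow.normalizer_sup_eq_top P
  have hBF : (F ⊓ K) ⊔ (P : Subgroup F).map F.subtype ≤ F := sup_le inf_le_left hQF
  have hFKn : (F ⊓ K).Normal := Subgroup.normal_inf_normal F K
  have hBn : ((F ⊓ K) ⊔ (P : Subgroup F).map F.subtype).Normal := by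
    constructor
    intro b hb g
    have hg : g ∈ Subgroup.normalizer (((P : Subgroup F).map F.subtype : Subgroup G) : Set G) ⊔ F := by
      rw [hfr]
      exact Subgroup.mem_top g
    obtain ⟨n, hn, e, he, rfl⟩ := Subgroup.mem_sup_of_normal_right.1 hg
    have h1 : e * b * e⁻¹ ∈ (F ⊓ K) ⊔ (P : Subgroup F).map F.subtype := by
      have h0 : e * b * e⁻¹ = (e * b * e⁻¹ * b⁻¹) * b := by group
      rw [h0]
      refine Subgroup.mul_mem _ ((le_sup_left : F ⊓ K ≤ _) ⟨?_, ?_⟩) hb
      · exact F.mul_mem (F.mul_mem (F.mul_mem he (hBF hb)) (F.inv_mem he)) (F.inv_mem (hBF hb))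
      · exact hcomm (Subgroup.commutator_mem_commutator he (hBF hb))
    have h2 : (F ⊓ K) ⊔ (P : Subgroup F).map F.subtype ≤
        ((F ⊓ K) ⊔ (P : Subgroup F).map F.subtype).comap (MulAut.conj n).toMonoidHom := by
      refine sup_le ?_ ?_
      · intro y hy
        rw [Subgroup.mem_comap]
        show n * y * n⁻¹ ∈ _
        exact (le_sup_left : F ⊓ K ≤ _) (hFKn.conj_mem y hy n)
      · intro y hy
        rw [Subgroup.mem_comap]
        show n * y * n⁻¹ ∈ _
        exact (le_sup_right : (P : Subgroup F).map F.subtype ≤ _)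
          ((Subgroup.mem_normalizer_iff.1 hn y).1 hy)
    have h3 : n * e * b * (n * e)⁻¹ = n * (e * b * e⁻¹) * n⁻¹ := by group
    rw [h3]
    exact h2 h1
  have hBeq : (F ⊓ K) ⊔ (P : Subgroup F).map F.subtype = F :=
    hmin' _ hBn hBF (fun h => hQK (le_trans le_sup_right h))
  refine ⟨F, hFn, _, hp, P, hFK, hmin', hBeq.symm, ?_⟩
  intro hn
  have hpg : IsPGroup (K.subgroupOf F).index.minFac ((P : Subgroup F).map F.subtype) :=
    P.isPGroup'.map F.subtype
  have hnil : Group.IsNilpotent ((P : Subgroup F).map F.subtype) := hpg.isNilpotent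
  have h1 : (P : Subgroup F).map F.subtype ≤ Cfsg.fittingSubgroup G := le_sSup ⟨hn, hnil⟩
  rw [← hF] at h1
  exact hQK h1

end grp

section final

variable {G : Type u} [Group G] [Fintype G]

theorem exists_conj_not_mem (M : Subgroup G) {v : G} (hv : v ∉ M.normalCore) :
    ∃ x : G, x⁻¹ * v * x ∉ M := by
  by_contra hall
  push Not at hall
  apply hv
  intro b
  have h := hall b⁻¹
  rw [inv_inv] at h
  exact h

theorem broline_garrison {χ : G → ℂ} (hχ : Cfsg.IsIrrCharacter G χ) (K : Subgroup G)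
    [hKn : K.Normal] (hK : ∀ g : G, g ∈ K ↔ χ g = χ 1)
    (h : ¬ K ≤ Cfsg.fittingSubgroup G ∨
      (K = Cfsg.fittingSubgroup G ∧ Group.IsSolvable (G ⧸ K) ∧ K ≠ ⊤)) :
    ∃ ψ : G → ℂ, ∃ hψ : Cfsg.IsIrrCharacter G ψ, Cfsg.charDegree χ < Cfsg.charDegree ψ ∧
      charKer ψ (IsIrrCharacter.isCharacter hψ) < K := by
  classical
  obtain ⟨d, hdpos, hd⟩ := IsIrrCharacter.degree_pos hχ
  have hχ1 : χ 1 ≠ 0 := by
    rw [hd]
    exact_mod_cast hdpos.ne'
  rcases h with h | ⟨hKF, hsolv, hKtop⟩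
  · obtain ⟨p, hp, P, hPn⟩ := case1 K h
    have hfr : Subgroup.normalizer (((P : Subgroup K).map K.subtype : Subgroup G) : Set G) ⊔ K = ⊤ :=
      Sylow.normalizer_sup_eq_top P
    have hne : Subgroup.normalizer (((P : Subgroup K).map K.subtype : Subgroup G) : Set G) ≠ ⊤ :=
      fun h => hPn (Subgroup.normalizer_eq_top_iff.1 h)
    obtain ⟨M, hM, hNM⟩ := (eq_top_or_exists_le_coatom _).resolve_left hne
    have hsup : K ⊔ M = ⊤ := by
      apply top_le_iff.1
      rw [← hfr]
      exact sup_le (le_trans hNM le_sup_right) le_sup_left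
    have hQM : (P : Subgroup K).map K.subtype ≤ M := le_trans Subgroup.le_normalizer hNM
    have hQK : (P : Subgroup K).map K.subtype ≤ K := Subgroup.map_subtype_le _
    by_contra hcon
    have hcore : (P : Subgroup K).map K.subtype ≤ K ⊓ M.normalCore := by
      intro v hv
      refine ⟨hQK hv, ?_⟩
      by_contra hvc
      obtain ⟨x, hx⟩ := exists_conj_not_mem M hvc
      have hχv : χ v ≠ 0 := by
        rw [(hK v).1 (hQK hv)]
        exact hχ1
      exact hcon (main hχ K hK M hM hsup (hQM hv) hx hχv)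
    have h1 := frattini_descend K (K ⊓ M.normalCore) inf_le_left P hcore
    have h2 : (⊤ : Subgroup G) ≤ M := by
      rw [← h1]
      exact sup_le hNM (le_trans inf_le_right (Subgroup.normalCore_le M))
    exact hM.1 (top_le_iff.1 h2)
  · obtain ⟨F, hFn, p, hp, P, hFK, hmin, hFeq, hQn⟩ := case2 K hKF hsolv hKtop
    have hfr : Subgroup.normalizer (((P : Subgroup F).map F.subtype : Subgroup G) : Set G) ⊔ F = ⊤ :=
      Sylow.normalizer_sup_eq_top P
    have hne : Subgroup.normalizer (((P : Subgroup F).map F.subtype : Subgroup G) : Set G) ≠ ⊤ :=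
      fun h => hQn (Subgroup.normalizer_eq_top_iff.1 h)
    obtain ⟨M, hM, hNM⟩ := (eq_top_or_exists_le_coatom _).resolve_left hne
    have hQM : (P : Subgroup F).map F.subtype ≤ M := le_trans Subgroup.le_normalizer hNM
    have hQF : (P : Subgroup F).map F.subtype ≤ F := Subgroup.map_subtype_le _
    have hFle : F ≤ K ⊔ M := by
      calc F = (F ⊓ K) ⊔ (P : Subgroup F).map F.subtype := hFeq
        _ ≤ K ⊔ M := sup_le (le_trans inf_le_right le_sup_left) (le_trans hQM le_sup_right)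
    have hsup : K ⊔ M = ⊤ := by
      apply top_le_iff.1
      rw [← hfr]
      exact sup_le (le_trans hNM le_sup_right) hFle
    by_contra hcon
    have hvan : ∀ v ∈ M, v ∉ M.normalCore → χ v = 0 := by
      intro v hv hvc
      by_contra hχv
      obtain ⟨x, hx⟩ := exists_conj_not_mem M hvc
      exact hcon (main hχ K hK M hM hsup hv hx hχv)
    have hFKn : (F ⊓ K).Normal := Subgroup.normal_inf_normal F K
    have hFCn : (F ⊓ M.normalCore).Normal := Subgroup.normal_inf_normal F M.normalCore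
    have hBn : ((F ⊓ K) ⊔ (F ⊓ M.normalCore)).Normal := Subgroup.sup_normal _ _
    have hBF : (F ⊓ K) ⊔ (F ⊓ M.normalCore) ≤ F := sup_le inf_le_left inf_le_left
    have hoff : ∀ u ∈ F, u ∉ (F ⊓ K) ⊔ (F ⊓ M.normalCore) → χ u = 0 := by
      intro u hu huB
      have hu' : u ∈ (F ⊓ K) ⊔ (P : Subgroup F).map F.subtype := by
        rw [← hFeq]
        exact hu
      obtain ⟨k, hk, v, hv, rfl⟩ := Subgroup.mem_sup_of_normal_left.1 hu'
      have hvC : v ∉ M.normalCore := fun hvC =>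
        huB (Subgroup.mul_mem _ ((le_sup_left : F ⊓ K ≤ _) hk)
          ((le_sup_right : F ⊓ M.normalCore ≤ _) ⟨hQF hv, hvC⟩))
      rw [IsCharacter.mul_left_of_eq_degree (IsIrrCharacter.isCharacter hχ) ((hK k).1 hk.2) v]
      exact hvan v (hQM hv) hvC
    by_cases hBK : (F ⊓ K) ⊔ (F ⊓ M.normalCore) ≤ K
    · obtain ⟨x, hxF, hxK⟩ := SetLike.not_le_iff_exists.1 hFK
      have hsum := sum_normal_eq_zero hχ F hxF (fun h => hxK ((hK x).2 h))
      have h2 : ∑ u : F, χ u = ∑ u : F, if (u : G) ∈ K then χ 1 else 0 := by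
        refine Finset.sum_congr rfl (fun u _ => ?_)
        split_ifs with h
        · exact (hK u).1 h
        · exact hoff u u.2 (fun hB => h (hBK hB))
      rw [h2, Finset.sum_ite, Finset.sum_const_zero, add_zero, Finset.sum_const,
        nsmul_eq_mul] at hsum
      rcases mul_eq_zero.1 hsum with h | h
      · have h3 : (Finset.univ.filter (fun u : F => (u : G) ∈ K)).card ≠ 0 :=
          Finset.card_ne_zero.2 ⟨1, by simp [K.one_mem]⟩
        exact h3 (by exact_mod_cast h)
      · exact hχ1 h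
    · have hBeq : (F ⊓ K) ⊔ (F ⊓ M.normalCore) = F := hmin _ hBn hBF hBK
      have hFC : ¬ F ⊓ M.normalCore ≤ K := fun h => hBK (sup_le inf_le_right h)
      have hFCeq : F ⊓ M.normalCore = F := hmin _ hFCn inf_le_left hFC
      have hFM : F ≤ M := by
        rw [← hFCeq]
        exact le_trans inf_le_right (Subgroup.normalCore_le M)
      have h2 : (⊤ : Subgroup G) ≤ M := by
        rw [← hfr]
        exact sup_le hNM hFM
      exact hM.1 (top_le_iff.1 h2)

end final

end Cfsg.Agent.Lib.Helper23.BG
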