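import Mathlib
import Cfsg.Prelude.Def_Local
import Cfsg.Agent.Lib.Helper1.TISylow
import Cfsg.Agent.Lib.Lead.Cores

set_option autoImplicit false
set_option linter.unusedSectionVars false
set_option linter.unusedVariables false
set_option linter.style.haveILetI false

namespace Cfsg.Agent.Lib.Helper23.Klein

universe u

variable {G : Type u} [Group G] [Finite G]

theorem sylow_card (g₀ : ℕ) (hg₀ : Odd g₀) (hG : Nat.card G = 4 * g₀) (P : Sylow 2 G) :
    Nat.card (P : Subgroup G) = 4 := by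
  rw [Sylow.card_eq_multiplicity, hG]
  have hg0 : g₀ ≠ 0 := by
    rintro rfl
    simp at hg₀
  have h1 : (4 : ℕ).factorization 2 = 2 := by
    have e : (4 : ℕ) = 2 ^ 2 := by norm_num
    rw [e, Nat.Prime.factorization_pow Nat.prime_two]
    simp
  have h2 : g₀.factorization 2 = 0 := by
    apply Nat.factorization_eq_zero_of_not_dvd
    intro h
    obtain ⟨k, hk⟩ := hg₀
    omega
  rw [Nat.factorization_mul (by norm_num) hg0]
  simp [h1, h2]

theorem sylow_comm (P : Sylow 2 G) (h4 : Nat.card (P : Subgroup G) = 4) :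
    ∀ a ∈ (P : Subgroup G), ∀ b ∈ (P : Subgroup G), a * b = b * a := by
  intro a ha b hb
  have hc := (IsPGroup.isMulCommutative_of_card_eq_prime_sq (p := 2) (G := (P : Subgroup G))
    (by rw [h4]; norm_num)).is_comm.comm ⟨a, ha⟩ ⟨b, hb⟩
  exact congrArg Subtype.val hc

theorem cent_of_sq (P : Sylow 2 G)
    (hab : ∀ a ∈ (P : Subgroup G), ∀ b ∈ (P : Subgroup G), a * b = b * a)
    (n : G) (hn : n ∈ Subgroup.normalizer ((P : Subgroup G) : Set G)) (u : G)
    (hu : u ∈ (P : Subgroup G)) (h2 : n * n * u = u * (n * n)) : n * u = u * n := by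
  obtain ⟨a, m, hm, hord⟩ := Nat.exists_eq_pow_mul_and_not_dvd (orderOf_pos n).ne' 2 (by norm_num)
  have hnm : n ^ m ∈ (P : Subgroup G) := by
    apply Cfsg.Agent.Lib.Helper1.mem_sylow_of_mem_normalizer 2 P (n ^ m) ⟨a, ?_⟩
      (Subgroup.pow_mem _ hn m)
    rw [← pow_mul, mul_comm, ← hord, pow_orderOf_eq_one]
  have c1 : Commute (n ^ 2) u := by
    rw [pow_two]
    exact h2
  have c2 : Commute (n ^ m) u := hab _ hnm _ hu
  have hcop : Nat.gcd 2 m = 1 := (Nat.Prime.coprime_iff_not_dvd Nat.prime_two).mpr hm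
  have hb := Nat.gcd_eq_gcd_ab 2 m
  rw [hcop] at hb
  have e : n = (n ^ 2) ^ (Nat.gcdA 2 m) * (n ^ m) ^ (Nat.gcdB 2 m) := by
    rw [← zpow_natCast, ← zpow_natCast, ← zpow_mul, ← zpow_mul, ← zpow_add]
    have : ((2 : ℕ) : ℤ) * Nat.gcdA 2 m + (m : ℤ) * Nat.gcdB 2 m = 1 := by
      rw [← hb]
      simp
    rw [this, zpow_one]
  have c3 : Commute n u := by
    rw [e]
    exact (c1.zpow_left _).mul_left (c2.zpow_left _)
  exact c3.eq

theorem not_le (g₀ : ℕ) (hG : Nat.card G = 4 * g₀)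
    (hnc : ¬ ∃ N : Subgroup G, N.Normal ∧ Nat.card N = g₀) (P : Sylow 2 G)
    (h4 : Nat.card (P : Subgroup G) = 4) :
    ¬ (Subgroup.normalizer ((P : Subgroup G) : Set G)
      ≤ Subgroup.centralizer ((P : Subgroup G) : Set G)) := by
  intro hP
  apply hnc
  have hc := MonoidHom.ker_transferSylow_isComplement' P hP
  refine ⟨(MonoidHom.transferSylow P hP).ker, inferInstance, ?_⟩
  have h := hc.card_mul_card
  rw [h4, hG] at h
  omega

theorem four_elts (P : Sylow 2 G) (h4 : Nat.card (P : Subgroup G) = 4) (a b c : G)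
    (ha : a ∈ (P : Subgroup G)) (hb : b ∈ (P : Subgroup G)) (hc : c ∈ (P : Subgroup G))
    (ha1 : a ≠ 1) (hb1 : b ≠ 1) (hc1 : c ≠ 1) (hab : a ≠ b) (hac : a ≠ c) (hbc : b ≠ c) :
    ∀ t ∈ (P : Subgroup G), t = 1 ∨ t = a ∨ t = b ∨ t = c := by
  classical
  haveI := Fintype.ofFinite G
  have hcard : (Finset.univ.filter (fun x : G => x ∈ (P : Subgroup G))).card = 4 := by
    rw [← h4, Nat.card_eq_fintype_card, Fintype.card_subtype]
  have hS : ({1, a, b, c} : Finset G) ⊆ Finset.univ.filter (fun x : G => x ∈ (P : Subgroup G)) := by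
    intro x hx
    simp only [Finset.mem_insert, Finset.mem_singleton] at hx
    simp only [Finset.mem_filter, Finset.mem_univ, true_and]
    rcases hx with rfl | rfl | rfl | rfl
    · exact Subgroup.one_mem _
    · exact ha
    · exact hb
    · exact hc
  have hScard : ({1, a, b, c} : Finset G).card = 4 := by
    rw [Finset.card_insert_of_notMem, Finset.card_insert_of_notMem, Finset.card_insert_of_notMem,
      Finset.card_singleton]
    · simp only [Finset.mem_singleton]
      exact hbc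
    · simp only [Finset.mem_insert, Finset.mem_singleton]
      push Not
      exact ⟨hab, hac⟩
    · simp only [Finset.mem_insert, Finset.mem_singleton]
      push Not
      exact ⟨ha1.symm, hb1.symm, hc1.symm⟩
  have heq := Finset.eq_of_subset_of_card_le hS (by rw [hcard, hScard])
  intro t ht
  have : t ∈ ({1, a, b, c} : Finset G) := by
    rw [heq]
    simp only [Finset.mem_filter, Finset.mem_univ, true_and]
    exact ht
  simpa using this

theorem fusion (P : Sylow 2 G) (h4 : Nat.card (P : Subgroup G) = 4)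
    (hnot : ¬ (Subgroup.normalizer ((P : Subgroup G) : Set G)
      ≤ Subgroup.centralizer ((P : Subgroup G) : Set G)))
    (J : G) (hJ : J ∈ (P : Subgroup G)) (hJ1 : J ≠ 1) (hJJ : J * J = 1) :
    ∃ J₁ g₁ g₂ : G, J₁ ∈ (P : Subgroup G) ∧ J₁ ≠ 1 ∧ J₁ ≠ J ∧ J₁ = g₁ * J * g₁⁻¹ ∧
      J * J₁ = g₂ * J * g₂⁻¹ ∧ ∀ t ∈ (P : Subgroup G), t = 1 ∨ t = J ∨ t = J₁ ∨ t = J * J₁ := by
  have hab := sylow_comm P h4
  obtain ⟨n, hnN, hnC⟩ := SetLike.not_le_iff_exists.mp hnot
  have hnorm : ∀ t : G, t ∈ (P : Subgroup G) → n * t * n⁻¹ ∈ (P : Subgroup G) := fun t ht =>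
    (Subgroup.mem_normalizer_iff.mp hnN t).mp ht
  have hinj : ∀ s t : G, n * s * n⁻¹ = n * t * n⁻¹ → s = t := by
    intro s t h
    have := congrArg (fun x => n⁻¹ * x * n) h
    simpa [mul_assoc] using this
  have hfix1 : ∀ t : G, n * t * n⁻¹ = 1 → t = 1 := by
    intro t h
    apply hinj t 1
    rw [h]
    group
  have hfix : ∀ t : G, n * t * n⁻¹ = t → t * n = n * t := by
    intro t h
    have : n * t = t * n := by
      calc n * t = n * t * n⁻¹ * n := by group
        _ = t * n := by rw [h]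
    exact this.symm
  have hsq : ∀ t : G, t ∈ (P : Subgroup G) → n * (n * t * n⁻¹) * n⁻¹ = t → n * t * n⁻¹ = t := by
    intro t ht h
    have h2 : n * n * t = t * (n * n) := by
      calc n * n * t = n * (n * t * n⁻¹) * n⁻¹ * (n * n) := by group
        _ = t * (n * n) := by rw [h]
    have h3 := cent_of_sq P hab n hnN t ht h2
    calc n * t * n⁻¹ = t * n * n⁻¹ := by rw [h3]
      _ = t := by group
  have hmove : ∀ t : G, t ∈ (P : Subgroup G) → t ≠ 1 → n * t * n⁻¹ ≠ t := by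
    rw [Subgroup.mem_centralizer_iff] at hnC
    push Not at hnC
    obtain ⟨u, hu, hun⟩ := hnC
    have huP : u ∈ (P : Subgroup G) := hu
    have hv : n * u * n⁻¹ ≠ u := fun h => hun (hfix u h)
    have hu1 : u ≠ 1 := by
      rintro rfl
      apply hv
      group
    have hvP := hnorm u huP
    have hwP := hnorm _ hvP
    have hv1 : n * u * n⁻¹ ≠ 1 := fun h => hu1 (hfix1 u h)
    have hw1 : n * (n * u * n⁻¹) * n⁻¹ ≠ 1 := fun h => hv1 (hfix1 _ h)
    have hwv : n * (n * u * n⁻¹) * n⁻¹ ≠ n * u * n⁻¹ := fun h => hv (hinj _ _ h)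
    have hwu : n * (n * u * n⁻¹) * n⁻¹ ≠ u := fun h => hv (hsq u huP h)
    have hall := four_elts P h4 u (n * u * n⁻¹) (n * (n * u * n⁻¹) * n⁻¹) huP hvP hwP hu1 hv1 hw1
      (Ne.symm hv) (Ne.symm hwu) (Ne.symm hwv)
    intro t ht ht1 hfixt
    rcases hall t ht with rfl | rfl | rfl | rfl
    · exact ht1 rfl
    · exact hv hfixt
    · exact hv (hinj _ _ hfixt)
    · exact hwv (hinj _ _ hfixt)
  have h1P := hnorm J hJ
  have h2P := hnorm _ h1P
  have h11 : n * J * n⁻¹ ≠ 1 := fun h => hJ1 (hfix1 J h)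
  have h1J : n * J * n⁻¹ ≠ J := hmove J hJ hJ1
  have h21 : n * (n * J * n⁻¹) * n⁻¹ ≠ 1 := fun h => h11 (hfix1 _ h)
  have h2J : n * (n * J * n⁻¹) * n⁻¹ ≠ J := fun h => h1J (hsq J hJ h)
  have h2v : n * (n * J * n⁻¹) * n⁻¹ ≠ n * J * n⁻¹ := fun h => h1J (hinj _ _ h)
  have hall := four_elts P h4 J (n * J * n⁻¹) (n * (n * J * n⁻¹) * n⁻¹) hJ h1P h2P hJ1 h11 h21
    (Ne.symm h1J) (Ne.symm h2J) (Ne.symm h2v)
  have hprod : J * (n * J * n⁻¹) = n * (n * J * n⁻¹) * n⁻¹ := by
    have hmem : J * (n * J * n⁻¹) ∈ (P : Subgroup G) := Subgroup.mul_mem _ hJ h1P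
    rcases hall _ hmem with h | h | h | h
    · exfalso
      apply h1J
      have hinv : J⁻¹ = J := inv_eq_of_mul_eq_one_left hJJ
      calc n * J * n⁻¹ = J⁻¹ * (J * (n * J * n⁻¹)) := by group
        _ = J := by rw [h, mul_one, hinv]
    · exfalso
      apply h11
      calc n * J * n⁻¹ = J⁻¹ * (J * (n * J * n⁻¹)) := by group
        _ = 1 := by rw [h]; group
    · exfalso
      apply hJ1
      calc J = J * (n * J * n⁻¹) * (n * J * n⁻¹)⁻¹ := by group
        _ = 1 := by rw [h]; group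
    · exact h
  refine ⟨n * J * n⁻¹, n, n * n, h1P, h11, h1J, rfl, ?_, ?_⟩
  · rw [hprod]
    group
  · intro t ht
    rcases hall t ht with h | h | h | h
    · exact Or.inl h
    · exact Or.inr (Or.inl h)
    · exact Or.inr (Or.inr (Or.inl h))
    · exact Or.inr (Or.inr (Or.inr (by rw [hprod]; exact h)))

end Cfsg.Agent.Lib.Helper23.Klein
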