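import Mathlib
import Cfsg.Agent.Lib.Helper23.Klein1

set_option autoImplicit false
set_option linter.unusedSectionVars false
set_option linter.unusedVariables false
set_option linter.style.haveILetI false

namespace Cfsg.Agent.Lib.Helper23.Klein

open Cfsg.Agent.Lib.Lead

universe u

variable {G : Type u} [Group G] [Finite G]

theorem cent_struct (P : Sylow 2 G) (h4 : Nat.card (P : Subgroup G) = 4)
    (J J₁ : G) (hJ : J ∈ (P : Subgroup G)) (hJ1 : J ≠ 1) (hJJ : J * J = 1)
    (hJ₁ : J₁ ∈ (P : Subgroup G)) (hJ₁1 : J₁ ≠ 1) (hJ₁J : J₁ ≠ J)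
    (hall : ∀ t ∈ (P : Subgroup G), t = 1 ∨ t = J ∨ t = J₁ ∨ t = J * J₁) :
    (Cfsg.centralizerPPrimeCore 2 J ≤ Subgroup.centralizer ({J} : Set G)) ∧
    (∀ c ∈ Subgroup.centralizer ({J} : Set G), ∀ k ∈ Cfsg.centralizerPPrimeCore 2 J,
        c * k * c⁻¹ ∈ Cfsg.centralizerPPrimeCore 2 J) ∧
    (Nat.card (Cfsg.centralizerPPrimeCore 2 J) * 4
        = Nat.card (Subgroup.centralizer ({J} : Set G))) ∧
    (∀ c ∈ Subgroup.centralizer ({J} : Set G), ∃ k ∈ Cfsg.centralizerPPrimeCore 2 J,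
        ∃ t ∈ (P : Subgroup G), c = k * t) ∧
    ((Cfsg.pPrimeCore 2 (Subgroup.centralizer ({J} : Set G))).index = 4) ∧
    (Nat.card (Cfsg.centralizerPPrimeCore 2 J)).Coprime 2 := by
  classical
  have hab := sylow_comm P h4
  obtain ⟨C, hCdef⟩ : ∃ C : Subgroup G, C = Subgroup.centralizer ({J} : Set G) := ⟨_, rfl⟩
  have hmemC : ∀ c : G, c ∈ C ↔ c * J = J * c := by
    intro c
    rw [hCdef, Subgroup.mem_centralizer_singleton_iff]
  have hPC : (P : Subgroup G) ≤ C := by
    intro t ht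
    rw [hmemC]
    exact hab t ht J hJ
  obtain ⟨Q, hQdef⟩ : ∃ Q : Sylow 2 C, Q = P.subtype hPC := ⟨_, rfl⟩
  have hQ : ∀ q : C, q ∈ (Q : Subgroup C) ↔ (q : G) ∈ (P : Subgroup G) := by
    intro q
    rw [hQdef, Sylow.coe_subtype]
    exact Subgroup.mem_subgroupOf
  have hQnc : Subgroup.normalizer ((Q : Subgroup C) : Set C)
      ≤ Subgroup.centralizer ((Q : Subgroup C) : Set C) := by
    intro n hn
    have hnP : (n : G) ∈ Subgroup.normalizer ((P : Subgroup G) : Set G) := by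
      rw [Subgroup.mem_normalizer_iff]
      intro t
      constructor
      · intro ht
        have h1 : (⟨t, hPC ht⟩ : C) ∈ (Q : Subgroup C) := (hQ _).mpr ht
        have h2 := (Subgroup.mem_normalizer_iff.mp hn ⟨t, hPC ht⟩).mp h1
        exact (hQ _).mp h2
      · intro ht
        have hn' : n⁻¹ ∈ Subgroup.normalizer ((Q : Subgroup C) : Set C) := Subgroup.inv_mem _ hn
        have h1 : (⟨(n : G) * t * (n : G)⁻¹, hPC ht⟩ : C) ∈ (Q : Subgroup C) := (hQ _).mpr ht
        have h2 := (Subgroup.mem_normalizer_iff.mp hn' _).mp h1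
        have h3 := (hQ _).mp h2
        have e : ((n⁻¹ * (⟨(n : G) * t * (n : G)⁻¹, hPC ht⟩ : C) * n⁻¹⁻¹ : C) : G) = t := by
          show (n : G)⁻¹ * ((n : G) * t * (n : G)⁻¹) * ((n : G)⁻¹)⁻¹ = t
          group
        rwa [e] at h3
    have hnJ : (n : G) * J = J * (n : G) := (hmemC _).mp n.2
    have hnJ₁P : (n : G) * J₁ * (n : G)⁻¹ ∈ (P : Subgroup G) :=
      (Subgroup.mem_normalizer_iff.mp hnP J₁).mp hJ₁
    have hnJ₁ : (n : G) * J₁ = J₁ * (n : G) := by
      rcases hall _ hnJ₁P with h | h | h | h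
      · exfalso
        apply hJ₁1
        calc J₁ = (n : G)⁻¹ * ((n : G) * J₁ * (n : G)⁻¹) * (n : G) := by group
          _ = 1 := by rw [h]; group
      · exfalso
        apply hJ₁J
        calc J₁ = (n : G)⁻¹ * ((n : G) * J₁ * (n : G)⁻¹) * (n : G) := by group
          _ = (n : G)⁻¹ * (J * (n : G)) := by rw [h]; group
          _ = J := by rw [← hnJ]; group
      · calc (n : G) * J₁ = (n : G) * J₁ * (n : G)⁻¹ * (n : G) := by group
          _ = J₁ * (n : G) := by rw [h]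
      · have h2 : (n : G) * (n : G) * J₁ = J₁ * ((n : G) * (n : G)) := by
          calc (n : G) * (n : G) * J₁
              = (n : G) * ((n : G) * J₁ * (n : G)⁻¹) * (n : G)⁻¹ * ((n : G) * (n : G)) := by group
            _ = (n : G) * J * (J₁ * (n : G)⁻¹ * ((n : G) * (n : G))) := by rw [h]; group
            _ = J * (n : G) * (J₁ * (n : G)⁻¹ * ((n : G) * (n : G))) := by rw [hnJ]
            _ = J * ((n : G) * J₁ * (n : G)⁻¹) * ((n : G) * (n : G)) := by group
            _ = J * (J * J₁) * ((n : G) * (n : G)) := by rw [h]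
            _ = J * J * J₁ * ((n : G) * (n : G)) := by group
            _ = J₁ * ((n : G) * (n : G)) := by rw [hJJ, one_mul]
        exact cent_of_sq P hab (n : G) hnP J₁ hJ₁ h2
    rw [Subgroup.mem_centralizer_iff]
    intro q hq
    have hqP : (q : G) ∈ (P : Subgroup G) := (hQ q).mp hq
    apply Subtype.ext
    show (q : G) * (n : G) = (n : G) * (q : G)
    rcases hall _ hqP with h | h | h | h
    · rw [h]; group
    · rw [h]; exact hnJ.symm
    · rw [h]; exact hnJ₁.symm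
    · rw [h]
      calc J * J₁ * (n : G) = J * (J₁ * (n : G)) := by group
        _ = J * ((n : G) * J₁) := by rw [hnJ₁]
        _ = J * (n : G) * J₁ := by group
        _ = (n : G) * J * J₁ := by rw [hnJ]
        _ = (n : G) * (J * J₁) := by group
  have hc := MonoidHom.ker_transferSylow_isComplement' Q hQnc
  obtain ⟨K₁, hK₁def⟩ : ∃ K₁ : Subgroup C, K₁ = (MonoidHom.transferSylow Q hQnc).ker := ⟨_, rfl⟩
  rw [← hK₁def] at hc
  have hK₁n : K₁.Normal := by
    rw [hK₁def]
    infer_instance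
  have hQcard : Nat.card (Q : Subgroup C) = 4 := by
    rw [← h4, hQdef, Sylow.coe_subtype]
    exact Nat.card_congr (Subgroup.subgroupOfEquivOfLe hPC).toEquiv
  have hK₁card : Nat.card K₁ * 4 = Nat.card C := by
    have h := hc.card_mul_card
    rw [hQcard] at h
    exact h
  have hK₁cop : ¬ 2 ∣ Nat.card K₁ := by
    rw [hK₁def]
    exact MonoidHom.not_dvd_card_ker_transferSylow Q hQnc
  obtain ⟨O, hOdef⟩ : ∃ O : Subgroup C, O = Cfsg.pPrimeCore 2 C := ⟨_, rfl⟩
  have hOn : O.Normal := by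
    rw [hOdef]
    exact Cores.pPrimeCore_normal 2
  have hK₁O : K₁ ≤ O := by
    rw [hOdef]
    exact Cores.le_pPrimeCore hK₁n
      (Nat.coprime_comm.mp ((Nat.Prime.coprime_iff_not_dvd Nat.prime_two).mpr hK₁cop))
  have hOcop : (Nat.card O).Coprime 2 := by
    rw [hOdef]
    exact Cores.pPrimeCore_card_coprime 2
  have hOdvd : Nat.card O ∣ Nat.card K₁ := by
    have h1 : Nat.card O ∣ Nat.card K₁ * 4 := by
      rw [hK₁card]
      exact Subgroup.card_subgroup_dvd_card O
    have h2 : (Nat.card O).Coprime 4 := by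
      have : (4 : ℕ) = 2 ^ 2 := by norm_num
      rw [this]
      exact Nat.Coprime.pow_right 2 hOcop
    exact Nat.Coprime.dvd_of_dvd_mul_right h2 h1
  have heq : K₁ = O := Subgroup.eq_of_le_of_card_ge hK₁O (Nat.le_of_dvd Nat.card_pos hOdvd)
  have hmapdef : Cfsg.centralizerPPrimeCore 2 J = O.map C.subtype := by
    rw [hOdef]
    subst hCdef
    rfl
  have hmapcard : Nat.card (O.map C.subtype) = Nat.card O :=
    Subgroup.card_map_of_injective C.subtype_injective
  rw [hmapdef, ← hCdef]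
  refine ⟨Subgroup.map_subtype_le O, ?_, ?_, ?_, ?_, ?_⟩
  · intro c hcC k hk
    obtain ⟨o, ho, rfl⟩ := Subgroup.mem_map.mp hk
    exact Subgroup.mem_map.mpr ⟨⟨c, hcC⟩ * o * ⟨c, hcC⟩⁻¹, hOn.conj_mem o ho _, rfl⟩
  · rw [hmapcard, ← heq]
    exact hK₁card
  · intro c hcC
    obtain ⟨x, hx⟩ := hc.2 ⟨c, hcC⟩
    refine ⟨(x.1.1 : G), Subgroup.mem_map.mpr ⟨x.1.1, heq ▸ x.1.2, rfl⟩, (x.2.1 : G),
      (hQ _).mp x.2.2, ?_⟩
    have := congrArg Subtype.val hx
    exact this.symm
  · have h1 := Subgroup.card_mul_index K₁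
    rw [← hK₁card] at h1
    rw [← hOdef, ← heq]
    exact Nat.eq_of_mul_eq_mul_left Nat.card_pos h1
  · rw [hmapcard]
    exact hOcop

end Cfsg.Agent.Lib.Helper23.Klein
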