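import Mathlib

set_option autoImplicit false
set_option linter.unusedSectionVars false
set_option linter.unusedVariables false
set_option linter.style.haveILetI false

namespace Cfsg.Agent.Lib.Helper23.Klein

universe u

variable {G : Type u} [Group G] [Finite G]

theorem inv_coset_iff (C K : Subgroup G) (hnorm : ∀ c ∈ C, ∀ k ∈ K, c * k * c⁻¹ ∈ K)
    (o : ℕ) (ho : Odd o) (hKo : ∀ k ∈ K, k ^ o = 1)
    (t : G) (htC : t ∈ C) (htt : t * t = 1) (x : G) (hxx : x * x = 1) :
    (∃ k ∈ K, x = t * k) ↔ ∃ m ∈ K, x = m * t * m⁻¹ := by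
  have tinv : t⁻¹ = t := inv_eq_of_mul_eq_one_left htt
  constructor
  · rintro ⟨k, hk, rfl⟩
    have hsemi : t * k = k⁻¹ * t := by
      have h1 : t * k = (t * k)⁻¹ := eq_inv_of_mul_eq_one_left hxx
      rw [mul_inv_rev, tinv] at h1
      exact h1
    obtain ⟨j, hj⟩ := ho
    have hs : SemiconjBy t k k⁻¹ := hsemi
    have hr : t * k ^ (j + 1) = (k ^ (j + 1))⁻¹ * t := by
      have := hs.pow_right (j + 1)
      rw [inv_pow] at this
      exact this
    have hrr : k ^ (j + 1) * k ^ (j + 1) = k := by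
      rw [← pow_add]
      have e : j + 1 + (j + 1) = o + 1 := by omega
      rw [e, pow_succ, hKo k hk, one_mul]
    refine ⟨(k ^ (j + 1))⁻¹, K.inv_mem (K.pow_mem hk _), ?_⟩
    rw [inv_inv, ← hr, mul_assoc, hrr]
  · rintro ⟨m, hm, rfl⟩
    refine ⟨t⁻¹ * m * t * m⁻¹, ?_, by group⟩
    have h1 := hnorm t⁻¹ (C.inv_mem htC) m hm
    rw [inv_inv] at h1
    exact K.mul_mem h1 (K.inv_mem hm)

theorem count_lemma (C K : Subgroup G) (J : G) (hC : ∀ c, c ∈ C ↔ c * J = J * c)
    (t g : G) (ht : t = g * J * g⁻¹) :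
    Nat.card {a : G // ∃ m ∈ K, a * J * a⁻¹ = m * t * m⁻¹} *
      Nat.card {d : G // d ∈ K ∧ d * t = t * d} = Nat.card K * Nat.card C := by
  classical
  letI act : MulAction (K × C) G :=
    { smul := fun x a => (x.1 : G) * a * (x.2 : G)⁻¹
      one_smul := fun a => by
        show ((1 : K × C).1 : G) * a * ((1 : K × C).2 : G)⁻¹ = a
        simp
      mul_smul := fun x y a => by
        show ((x * y).1 : G) * a * ((x * y).2 : G)⁻¹
          = (x.1 : G) * ((y.1 : G) * a * (y.2 : G)⁻¹) * (x.2 : G)⁻¹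
        simp [mul_assoc] }
  have hsmul : ∀ (x : K × C) (a : G), x • a = (x.1 : G) * a * (x.2 : G)⁻¹ := fun _ _ => rfl
  haveI : Fintype (K × C) := Fintype.ofFinite _
  haveI : Fintype (MulAction.orbit (K × C) g) := Fintype.ofFinite _
  haveI : Fintype (MulAction.stabilizer (K × C) g) := Fintype.ofFinite _
  have h := MulAction.card_orbit_mul_card_stabilizer_eq_card_group (K × C) g
  have e1 : Nat.card {a : G // ∃ m ∈ K, a * J * a⁻¹ = m * t * m⁻¹}
      = Fintype.card (MulAction.orbit (K × C) g) := by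
    rw [← Nat.card_eq_fintype_card]
    apply Nat.card_congr
    apply Equiv.subtypeEquivRight
    intro a
    rw [MulAction.mem_orbit_iff]
    constructor
    · rintro ⟨m, hm, hma⟩
      have hmem : (m * g)⁻¹ * a ∈ C := by
        rw [hC]
        have h3 : a * J = (m * g) * J * (m * g)⁻¹ * a := by
          calc a * J = a * J * a⁻¹ * a := by group
            _ = m * (g * J * g⁻¹) * m⁻¹ * a := by rw [hma, ht]
            _ = (m * g) * J * (m * g)⁻¹ * a := by group
        calc (m * g)⁻¹ * a * J = (m * g)⁻¹ * (a * J) := by group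
          _ = (m * g)⁻¹ * ((m * g) * J * (m * g)⁻¹ * a) := by rw [h3]
          _ = J * ((m * g)⁻¹ * a) := by group
      refine ⟨(⟨m, hm⟩, ⟨((m * g)⁻¹ * a)⁻¹, C.inv_mem hmem⟩), ?_⟩
      rw [hsmul]
      show m * g * (((m * g)⁻¹ * a)⁻¹)⁻¹ = a
      group
    · rintro ⟨x, hx⟩
      rw [hsmul] at hx
      refine ⟨x.1.1, x.1.2, ?_⟩
      have hxJ : (x.2 : G) * J = J * (x.2 : G) := (hC _).mp x.2.2
      have hxJ' : (x.2 : G)⁻¹ * J * (x.2 : G) = J := by
        calc (x.2 : G)⁻¹ * J * (x.2 : G) = (x.2 : G)⁻¹ * (J * (x.2 : G)) := by group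
          _ = (x.2 : G)⁻¹ * ((x.2 : G) * J) := by rw [hxJ]
          _ = J := by group
      rw [← hx, ht]
      calc (x.1 : G) * g * (x.2 : G)⁻¹ * J * ((x.1 : G) * g * (x.2 : G)⁻¹)⁻¹
          = (x.1 : G) * g * ((x.2 : G)⁻¹ * J * (x.2 : G)) * g⁻¹ * (x.1 : G)⁻¹ := by group
        _ = (x.1 : G) * (g * J * g⁻¹) * (x.1 : G)⁻¹ := by rw [hxJ']; group
  have e2 : Nat.card {d : G // d ∈ K ∧ d * t = t * d}
      = Fintype.card (MulAction.stabilizer (K × C) g) := by
    rw [← Nat.card_eq_fintype_card]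
    have hmemC : ∀ d : G, d * t = t * d → g⁻¹ * d * g ∈ C := by
      intro d hd
      rw [hC]
      calc g⁻¹ * d * g * J = g⁻¹ * (d * (g * J * g⁻¹)) * g := by group
        _ = g⁻¹ * ((g * J * g⁻¹) * d) * g := by rw [← ht, hd]
        _ = J * (g⁻¹ * d * g) := by group
    have hstab : ∀ s : MulAction.stabilizer (K × C) g, (s.1.2 : G) = g⁻¹ * (s.1.1 : G) * g := by
      intro s
      have h1 : s.1 • g = g := MulAction.mem_stabilizer_iff.mp s.2
      rw [hsmul] at h1
      calc (s.1.2 : G) = g⁻¹ * g * (s.1.2 : G) := by group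
        _ = g⁻¹ * ((s.1.1 : G) * g * (s.1.2 : G)⁻¹) * (s.1.2 : G) := by rw [h1]
        _ = g⁻¹ * (s.1.1 : G) * g := by group
    apply Nat.card_congr
    refine Equiv.ofBijective (fun d => ⟨(⟨d.1, d.2.1⟩, ⟨g⁻¹ * d.1 * g, hmemC d.1 d.2.2⟩), ?_⟩)
      ⟨?_, ?_⟩
    · rw [MulAction.mem_stabilizer_iff, hsmul]
      show d.1 * g * (g⁻¹ * d.1 * g)⁻¹ = g
      group
    · intro d d' hdd
      have h1 := congrArg (fun s : MulAction.stabilizer (K × C) g => (s.1.1 : G)) hdd
      exact Subtype.ext h1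
    · intro s
      have hs := hstab s
      have hcomm : (s.1.1 : G) * t = t * (s.1.1 : G) := by
        have h2 : (s.1.2 : G) * J = J * (s.1.2 : G) := (hC _).mp s.1.2.2
        rw [hs] at h2
        rw [ht]
        calc (s.1.1 : G) * (g * J * g⁻¹) = g * (g⁻¹ * (s.1.1 : G) * g * J) * g⁻¹ := by group
          _ = g * (J * (g⁻¹ * (s.1.1 : G) * g)) * g⁻¹ := by rw [h2]
          _ = g * J * g⁻¹ * (s.1.1 : G) := by group
      refine ⟨⟨(s.1.1 : G), s.1.1.2, hcomm⟩, ?_⟩
      apply Subtype.ext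
      apply Prod.ext
      · rfl
      · apply Subtype.ext
        exact hs.symm
  rw [e1, e2, h, ← Nat.card_eq_fintype_card, Nat.card_prod]

end Cfsg.Agent.Lib.Helper23.Klein
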