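import Mathlib
import Cfsg.Agent.Lib.Helper23.Klein2

set_option autoImplicit false
set_option linter.unusedSectionVars false
set_option linter.unusedVariables false
set_option linter.style.haveILetI false

namespace Cfsg.Agent.Lib.Helper23.Klein

universe u

variable {G : Type u} [Group G] [Finite G]

theorem odd_pow_self (o : ℕ) (ho : Odd o) (x : G) (hxx : x * x = 1) : x ^ o = x := by
  obtain ⟨j, rfl⟩ := ho
  rw [pow_succ, pow_mul, pow_two, hxx, one_pow, one_mul]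

theorem pair_iff (C K P : Subgroup G) (J J₁ : G) (hC : ∀ c, c ∈ C ↔ c * J = J * c)
    (hKC : K ≤ C) (hnorm : ∀ c ∈ C, ∀ k ∈ K, c * k * c⁻¹ ∈ K)
    (o : ℕ) (ho : Odd o) (hKo : ∀ k ∈ K, k ^ o = 1)
    (hdec : ∀ c ∈ C, ∃ k ∈ K, ∃ t ∈ P, c = k * t)
    (hall : ∀ t ∈ P, t = 1 ∨ t = J ∨ t = J₁ ∨ t = J * J₁)
    (hJP : J ∈ P) (hJJ : J * J = 1) (hJ₁J₁ : J₁ * J₁ = 1) (hcomm : J * J₁ = J₁ * J)
    (x y : G) (hxx : x * x = 1) (hyy : y * y = 1) (hx1 : x ≠ 1) (hy1 : y ≠ 1) :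
    (∃ k ∈ K, x * y = J * k) ↔
      ((∃ k ∈ K, x = J₁ * k) ∧ (∃ k ∈ K, y = J * J₁ * k)) ∨
      ((∃ k ∈ K, x = J * J₁ * k) ∧ (∃ k ∈ K, y = J₁ * k)) := by
  have Jinv : J⁻¹ = J := inv_eq_of_mul_eq_one_left hJJ
  have J₁inv : J₁⁻¹ = J₁ := inv_eq_of_mul_eq_one_left hJ₁J₁
  have hJC : J ∈ C := (hC J).mpr rfl
  have hJ₁C : J₁ ∈ C := (hC J₁).mpr hcomm.symm
  have hJJ₁C : J * J₁ ∈ C := C.mul_mem hJC hJ₁C
  have hJJ₁sq : J * J₁ * (J * J₁) = 1 := by
    calc J * J₁ * (J * J₁) = J * (J₁ * J) * J₁ := by group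
      _ = J * (J * J₁) * J₁ := by rw [hcomm]
      _ = J * J * (J₁ * J₁) := by group
      _ = 1 := by rw [hJJ, hJ₁J₁, one_mul]
  have hPsq : ∀ t ∈ P, t * t = 1 := by
    intro t ht
    rcases hall t ht with rfl | rfl | rfl | rfl
    · group
    · exact hJJ
    · exact hJ₁J₁
    · exact hJJ₁sq
  have hPC : ∀ t ∈ P, t ∈ C := by
    intro t ht
    rcases hall t ht with rfl | rfl | rfl | rfl
    · exact C.one_mem
    · exact hJC
    · exact hJ₁C
    · exact hJJ₁C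
  have hKP : ∀ t ∈ P, t ∈ K → t = 1 := by
    intro t ht htK
    rw [← odd_pow_self o ho t (hPsq t ht)]
    exact hKo t htK
  have hmove : ∀ t ∈ C, ∀ k ∈ K, ∃ k' ∈ K, k * t = t * k' := by
    intro t ht k hk
    refine ⟨t⁻¹ * k * t, ?_, by group⟩
    have h1 := hnorm t⁻¹ (C.inv_mem ht) k hk
    rw [inv_inv] at h1
    exact h1
  constructor
  · rintro ⟨k, hk, hxy⟩
    have hkJ : Commute J k := ((hC k).mp (hKC hk)).symm
    have hzo : (x * y) ^ o = J := by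
      rw [hxy, hkJ.mul_pow, hKo k hk, mul_one, odd_pow_self o ho J hJJ]
    have xinv : x⁻¹ = x := inv_eq_of_mul_eq_one_left hxx
    have yinv : y⁻¹ = y := inv_eq_of_mul_eq_one_left hyy
    have hzinv : (x * y)⁻¹ = y * x := by rw [mul_inv_rev, xinv, yinv]
    have hxz : x * (x * y) * x⁻¹ = (x * y)⁻¹ := by
      rw [hzinv, xinv]
      calc x * (x * y) * x = x * x * y * x := by group
        _ = y * x := by rw [hxx, one_mul]
    have hyz : y * (x * y) * y⁻¹ = (x * y)⁻¹ := by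
      rw [hzinv]
      group
    have hxC : x ∈ C := by
      rw [hC]
      have h1 : x * J * x⁻¹ = J := by
        rw [← hzo, ← conj_pow, hxz, inv_pow, hzo, Jinv]
      calc x * J = x * J * x⁻¹ * x := by group
        _ = J * x := by rw [h1]
    have hyC : y ∈ C := by
      rw [hC]
      have h1 : y * J * y⁻¹ = J := by
        rw [← hzo, ← conj_pow, hyz, inv_pow, hzo, Jinv]
      calc y * J = y * J * y⁻¹ * y := by group
        _ = J * y := by rw [h1]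
    obtain ⟨k₁, hk₁, t₁, ht₁, hxe⟩ := hdec x hxC
    obtain ⟨k₂, hk₂, t₂, ht₂, hye⟩ := hdec y hyC
    have ht₁1 : t₁ ≠ 1 := by
      rintro rfl
      apply hx1
      rw [mul_one] at hxe
      rw [← odd_pow_self o ho x hxx, hxe]
      exact hKo k₁ hk₁
    have ht₂1 : t₂ ≠ 1 := by
      rintro rfl
      apply hy1
      rw [mul_one] at hye
      rw [← odd_pow_self o ho y hyy, hye]
      exact hKo k₂ hk₂
    have hprod : t₁ * t₂ = J := by
      have h1 : t₁ * t₂ * J⁻¹ ∈ K := by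
        have e : t₁ * t₂ * J⁻¹ = (k₁ * (t₁ * k₂ * t₁⁻¹))⁻¹ * (J * k * J⁻¹) := by
          have e2 : J * k = k₁ * t₁ * (k₂ * t₂) := by rw [← hxy, hxe, hye]
          calc t₁ * t₂ * J⁻¹ = (k₁ * (t₁ * k₂ * t₁⁻¹))⁻¹ * (k₁ * t₁ * (k₂ * t₂)) * J⁻¹ := by group
            _ = (k₁ * (t₁ * k₂ * t₁⁻¹))⁻¹ * (J * k * J⁻¹) := by rw [← e2]; group
        rw [e]
        exact K.mul_mem (K.inv_mem (K.mul_mem hk₁ (hnorm t₁ (hPC t₁ ht₁) k₂ hk₂)))
          (hnorm J hJC k hk)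
      have h2 : t₁ * t₂ * J⁻¹ ∈ P := P.mul_mem (P.mul_mem ht₁ ht₂) (P.inv_mem hJP)
      have h3 := hKP _ h2 h1
      calc t₁ * t₂ = t₁ * t₂ * J⁻¹ * J := by group
        _ = J := by rw [h3, one_mul]
    obtain ⟨k₁', hk₁', hx'⟩ := hmove t₁ (hPC t₁ ht₁) k₁ hk₁
    obtain ⟨k₂', hk₂', hy'⟩ := hmove t₂ (hPC t₂ ht₂) k₂ hk₂
    rw [hx'] at hxe
    rw [hy'] at hye
    rcases hall t₁ ht₁ with h | h | h | h
    · exact absurd h ht₁1
    · exfalso
      apply ht₂1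
      rw [h] at hprod
      exact mul_left_cancel (hprod.trans (mul_one J).symm)
    · left
      have ht₂e : t₂ = J * J₁ := by
        rw [h] at hprod
        calc t₂ = J₁⁻¹ * (J₁ * t₂) := by group
          _ = J₁ * J := by rw [hprod, J₁inv]
          _ = J * J₁ := hcomm.symm
      exact ⟨⟨k₁', hk₁', by rw [hxe, h]⟩, ⟨k₂', hk₂', by rw [hye, ht₂e]⟩⟩
    · right
      have ht₂e : t₂ = J₁ := by
        rw [h] at hprod
        calc t₂ = (J * J₁)⁻¹ * (J * J₁ * t₂) := by group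
          _ = (J * J₁)⁻¹ * J := by rw [hprod]
          _ = J₁⁻¹ := by group
          _ = J₁ := J₁inv
      exact ⟨⟨k₁', hk₁', by rw [hxe, h]⟩, ⟨k₂', hk₂', by rw [hye, ht₂e]⟩⟩
  · rintro (⟨⟨k, hk, rfl⟩, ⟨k', hk', rfl⟩⟩ | ⟨⟨k, hk, rfl⟩, ⟨k', hk', rfl⟩⟩)
    · obtain ⟨k'', hk'', he⟩ := hmove (J * J₁) hJJ₁C k hk
      refine ⟨k'' * k', K.mul_mem hk'' hk', ?_⟩
      calc J₁ * k * (J * J₁ * k') = J₁ * (k * (J * J₁)) * k' := by group
        _ = J₁ * (J * J₁ * k'') * k' := by rw [he]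
        _ = (J₁ * J) * J₁ * k'' * k' := by group
        _ = (J * J₁) * J₁ * k'' * k' := by rw [hcomm]
        _ = J * (J₁ * J₁) * (k'' * k') := by group
        _ = J * (k'' * k') := by rw [hJ₁J₁, mul_one]
    · obtain ⟨k'', hk'', he⟩ := hmove J₁ hJ₁C k hk
      refine ⟨k'' * k', K.mul_mem hk'' hk', ?_⟩
      calc J * J₁ * k * (J₁ * k') = J * J₁ * (k * J₁) * k' := by group
        _ = J * J₁ * (J₁ * k'') * k' := by rw [he]
        _ = J * (J₁ * J₁) * (k'' * k') := by group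
        _ = J * (k'' * k') := by rw [hJ₁J₁, mul_one]

theorem card_centP (C K P : Subgroup G) (J t : G) (hC : ∀ c, c ∈ C ↔ c * J = J * c)
    (hdec : ∀ c ∈ C, ∃ k ∈ K, ∃ s ∈ P, c = k * s)
    (hKP : ∀ s ∈ P, s ∈ K → s = 1)
    (hPab : ∀ a ∈ P, ∀ b ∈ P, a * b = b * a) (hJP : J ∈ P) (htP : t ∈ P)
    (hgen : ∀ d ∈ K, d * t = t * d → ∀ s ∈ P, d * s = s * d) :
    Nat.card (Subgroup.centralizer (P : Set G))
      = Nat.card {d : G // d ∈ K ∧ d * t = t * d} * Nat.card P := by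
  rw [← Nat.card_prod]
  symm
  apply Nat.card_congr
  refine Equiv.ofBijective (fun x => ⟨x.1.1 * x.2.1, ?_⟩) ⟨?_, ?_⟩
  · rw [Subgroup.mem_centralizer_iff]
    intro h hh
    have h1 : x.1.1 * h = h * x.1.1 := hgen x.1.1 x.1.2.1 x.1.2.2 h hh
    have h2 : h * (x.2 : G) = (x.2 : G) * h := hPab h hh _ x.2.2
    calc h * (x.1.1 * (x.2 : G)) = (h * x.1.1) * (x.2 : G) := by group
      _ = x.1.1 * (h * (x.2 : G)) := by rw [← h1]; group
      _ = x.1.1 * (x.2 : G) * h := by rw [h2]; group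
  · intro x x' hxx'
    have h1 : x.1.1 * (x.2 : G) = x'.1.1 * (x'.2 : G) := congrArg Subtype.val hxx'
    have h2 : (x'.2 : G) * (x.2 : G)⁻¹ ∈ K := by
      have e : (x'.2 : G) * (x.2 : G)⁻¹ = x'.1.1⁻¹ * x.1.1 := by
        calc (x'.2 : G) * (x.2 : G)⁻¹ = x'.1.1⁻¹ * (x'.1.1 * (x'.2 : G)) * (x.2 : G)⁻¹ := by group
          _ = x'.1.1⁻¹ * x.1.1 := by rw [← h1]; group
      rw [e]
      exact K.mul_mem (K.inv_mem x'.1.2.1) x.1.2.1
    have h3 := hKP _ (P.mul_mem x'.2.2 (P.inv_mem x.2.2)) h2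
    have h4 : (x'.2 : G) = (x.2 : G) := by
      calc (x'.2 : G) = (x'.2 : G) * (x.2 : G)⁻¹ * (x.2 : G) := by group
        _ = (x.2 : G) := by rw [h3, one_mul]
    have h5 : x.1.1 = x'.1.1 := by
      rw [h4] at h1
      exact mul_right_cancel h1
    exact Prod.ext (Subtype.ext h5) (Subtype.ext h4.symm)
  · intro z
    have hz := Subgroup.mem_centralizer_iff.mp z.2
    have hzC : (z : G) ∈ C := by
      rw [hC]
      exact (hz J hJP).symm
    obtain ⟨k, hk, s, hs, hzks⟩ := hdec z hzC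
    have hkt : k * t = t * k := by
      have h1 : t * (z : G) = (z : G) * t := hz t htP
      have h2 : s * t = t * s := hPab s hs t htP
      have hk' : k = (z : G) * s⁻¹ := by rw [hzks]; group
      rw [hk']
      have h3 : s⁻¹ * t = t * s⁻¹ := by
        calc s⁻¹ * t = s⁻¹ * (t * s) * s⁻¹ := by group
          _ = s⁻¹ * (s * t) * s⁻¹ := by rw [h2]
          _ = t * s⁻¹ := by group
      calc (z : G) * s⁻¹ * t = (z : G) * (s⁻¹ * t) := by group
        _ = (z : G) * (t * s⁻¹) := by rw [h3]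
        _ = ((z : G) * t) * s⁻¹ := by group
        _ = (t * (z : G)) * s⁻¹ := by rw [h1]
        _ = t * ((z : G) * s⁻¹) := by group
    refine ⟨(⟨k, hk, hkt⟩, ⟨s, hs⟩), ?_⟩
    apply Subtype.ext
    exact hzks.symm

end Cfsg.Agent.Lib.Helper23.Klein
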