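import Mathlib
import Cfsg.Agent.Lib.Helper23.Klein1
import Cfsg.Agent.Lib.Helper23.Klein2b

set_option autoImplicit false
set_option linter.unusedSectionVars false
set_option linter.unusedVariables false
set_option linter.style.haveILetI false

namespace Cfsg.Agent.Lib.Helper23.Klein

universe u

variable {G : Type u} [Group G] [Fintype G]

open Classical in
theorem count_S (P : Sylow 2 G) (h4 : Nat.card (P : Subgroup G) = 4)
    (C K : Subgroup G) (J J₁ g₁ g₂ : G)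
    (hC : ∀ c, c ∈ C ↔ c * J = J * c)
    (hKC : K ≤ C) (hnorm : ∀ c ∈ C, ∀ k ∈ K, c * k * c⁻¹ ∈ K)
    (hKcard : Nat.card K * 4 = Nat.card C) (hKcop : (Nat.card K).Coprime 2)
    (hdec : ∀ c ∈ C, ∃ k ∈ K, ∃ t ∈ (P : Subgroup G), c = k * t)
    (hall : ∀ t ∈ (P : Subgroup G), t = 1 ∨ t = J ∨ t = J₁ ∨ t = J * J₁)
    (hJP : J ∈ (P : Subgroup G)) (hJ₁P : J₁ ∈ (P : Subgroup G)) (hJ1 : J ≠ 1) (hJJ : J * J = 1)
    (hg₁ : J₁ = g₁ * J * g₁⁻¹) (hg₂ : J * J₁ = g₂ * J * g₂⁻¹) :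
    (∑ a : G, ∑ b : G,
        (if ∃ k ∈ K, a * J * a⁻¹ * (b * J * b⁻¹) = J * k then (1 : ℂ) else 0))
      * (Nat.card (Subgroup.centralizer ((P : Subgroup G) : Set G)) : ℂ) ^ 2
      = 2 * (Nat.card C : ℂ) ^ 4 := by
  have hab := sylow_comm P h4
  have hcomm : J * J₁ = J₁ * J := hab J hJP J₁ hJ₁P
  have hJ₁J₁ : J₁ * J₁ = 1 := by
    rw [hg₁]
    calc g₁ * J * g₁⁻¹ * (g₁ * J * g₁⁻¹) = g₁ * (J * J) * g₁⁻¹ := by group
      _ = 1 := by rw [hJJ]; group
  have ho : Odd (Nat.card K) := Nat.Coprime.odd_of_right hKcop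
  have hKo : ∀ k ∈ K, k ^ (Nat.card K) = 1 := by
    intro k hk
    have h := pow_card_eq_one' (G := K) (x := ⟨k, hk⟩)
    have h2 : (((⟨k, hk⟩ : K) ^ Nat.card K : K) : G) = ((1 : K) : G) := congrArg Subtype.val h
    rw [Subgroup.coe_pow] at h2
    exact h2
  have hJC : J ∈ C := (hC J).mpr rfl
  have hJ₁C : J₁ ∈ C := (hC J₁).mpr hcomm.symm
  have hJJ₁C : J * J₁ ∈ C := C.mul_mem hJC hJ₁C
  have hJJ₁sq : J * J₁ * (J * J₁) = 1 := by
    calc J * J₁ * (J * J₁) = J * (J₁ * J) * J₁ := by group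
      _ = J * (J * J₁) * J₁ := by rw [hcomm]
      _ = J * J * (J₁ * J₁) := by group
      _ = 1 := by rw [hJJ, hJ₁J₁, one_mul]
  have hPsq : ∀ t ∈ (P : Subgroup G), t * t = 1 := by
    intro t ht
    rcases hall t ht with rfl | rfl | rfl | rfl
    · group
    · exact hJJ
    · exact hJ₁J₁
    · exact hJJ₁sq
  have hKP : ∀ t ∈ (P : Subgroup G), t ∈ K → t = 1 := by
    intro t ht htK
    rw [← odd_pow_self _ ho t (hPsq t ht)]
    exact hKo t htK
  have hconj_sq : ∀ a : G, a * J * a⁻¹ * (a * J * a⁻¹) = 1 := by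
    intro a
    calc a * J * a⁻¹ * (a * J * a⁻¹) = a * (J * J) * a⁻¹ := by group
      _ = 1 := by rw [hJJ]; group
  have hconj_ne : ∀ a : G, a * J * a⁻¹ ≠ 1 := by
    intro a h
    apply hJ1
    calc J = a⁻¹ * (a * J * a⁻¹) * a := by group
      _ = 1 := by rw [h]; group
  have hexcl : ∀ a : G, (∃ k ∈ K, a * J * a⁻¹ = J₁ * k) →
      (∃ k ∈ K, a * J * a⁻¹ = J * J₁ * k) → False := by
    rintro a ⟨k, hk, h1⟩ ⟨k', hk', h2⟩
    apply hJ1
    apply hKP J hJP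
    have e : J = k * k'⁻¹ := by
      have h3 : J₁ * k = J * J₁ * k' := h1.symm.trans h2
      have h4 : J₁ * k = J₁ * (J * k') := by
        rw [h3, hcomm]
        group
      have h5 : k = J * k' := mul_left_cancel h4
      rw [h5]
      group
    rw [e]
    exact K.mul_mem hk (K.inv_mem hk')
  have hpt : ∀ a b : G,
      (if ∃ k ∈ K, a * J * a⁻¹ * (b * J * b⁻¹) = J * k then (1 : ℂ) else 0)
        = (if ∃ k ∈ K, a * J * a⁻¹ = J₁ * k then (1 : ℂ) else 0)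
            * (if ∃ k ∈ K, b * J * b⁻¹ = J * J₁ * k then (1 : ℂ) else 0)
          + (if ∃ k ∈ K, a * J * a⁻¹ = J * J₁ * k then (1 : ℂ) else 0)
            * (if ∃ k ∈ K, b * J * b⁻¹ = J₁ * k then (1 : ℂ) else 0) := by
    intro a b
    have hiff := pair_iff C K (P : Subgroup G) J J₁ hC hKC hnorm _ ho hKo hdec hall hJP hJJ hJ₁J₁
      hcomm (a * J * a⁻¹) (b * J * b⁻¹) (hconj_sq a) (hconj_sq b) (hconj_ne a) (hconj_ne b)
    by_cases h1 : ∃ k ∈ K, a * J * a⁻¹ = J₁ * k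
    · have h2 : ¬ ∃ k ∈ K, a * J * a⁻¹ = J * J₁ * k := fun h => hexcl a h1 h
      by_cases h4 : ∃ k ∈ K, b * J * b⁻¹ = J * J₁ * k
      · have h3 : ¬ ∃ k ∈ K, b * J * b⁻¹ = J₁ * k := fun h => hexcl b h h4
        rw [if_pos (hiff.mpr (Or.inl ⟨h1, h4⟩)), if_pos h1, if_pos h4, if_neg h2, if_neg h3]
        simp
      · rw [if_neg (fun h => (hiff.mp h).elim (fun h' => h4 h'.2) (fun h' => h2 h'.1)),
          if_pos h1, if_neg h4, if_neg h2]
        simp
    · by_cases h2 : ∃ k ∈ K, a * J * a⁻¹ = J * J₁ * k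
      · by_cases h3 : ∃ k ∈ K, b * J * b⁻¹ = J₁ * k
        · rw [if_pos (hiff.mpr (Or.inr ⟨h2, h3⟩)), if_neg h1, if_pos h2, if_pos h3]
          simp
        · rw [if_neg (fun h => (hiff.mp h).elim (fun h' => h1 h'.1) (fun h' => h3 h'.2)),
            if_neg h1, if_pos h2, if_neg h3]
          simp
      · rw [if_neg (fun h => (hiff.mp h).elim (fun h' => h1 h'.1) (fun h' => h2 h'.1)),
          if_neg h1, if_neg h2]
        simp
  have hsum : ∀ t : G, ∑ a : G, (if ∃ k ∈ K, a * J * a⁻¹ = t * k then (1 : ℂ) else 0)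
      = (Nat.card {a : G // ∃ k ∈ K, a * J * a⁻¹ = t * k} : ℂ) := by
    intro t
    rw [Finset.sum_boole, Nat.card_eq_fintype_card, Fintype.card_subtype]
  have hcount : ∀ t g : G, t = g * J * g⁻¹ → t ∈ (P : Subgroup G) → t ∈ C →
      (∀ d ∈ K, d * t = t * d → ∀ s ∈ (P : Subgroup G), d * s = s * d) →
      Nat.card {a : G // ∃ k ∈ K, a * J * a⁻¹ = t * k}
        * Nat.card (Subgroup.centralizer ((P : Subgroup G) : Set G))
        = Nat.card C * Nat.card C := by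
    intro t g ht htP htC hgen
    have e1 : Nat.card {a : G // ∃ k ∈ K, a * J * a⁻¹ = t * k}
        = Nat.card {a : G // ∃ m ∈ K, a * J * a⁻¹ = m * t * m⁻¹} := by
      apply Nat.card_congr
      apply Equiv.subtypeEquivRight
      intro a
      exact inv_coset_iff C K hnorm _ ho hKo t htC (hPsq t htP) (a * J * a⁻¹) (hconj_sq a)
    have e2 := count_lemma C K J hC t g ht
    have e3 := card_centP C K (P : Subgroup G) J t hC hdec hKP hab hJP htP hgen
    rw [e1, e3, h4, ← mul_assoc, e2, ← hKcard]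
    ring
  have hKJ : ∀ d ∈ K, d * J = J * d := fun d hd => (hC d).mp (hKC hd)
  have hgen₁ : ∀ d ∈ K, d * J₁ = J₁ * d → ∀ s ∈ (P : Subgroup G), d * s = s * d := by
    intro d hd hd1 s hs
    rcases hall s hs with rfl | rfl | rfl | rfl
    · group
    · exact hKJ d hd
    · exact hd1
    · calc d * (J * J₁) = (d * J) * J₁ := by group
        _ = J * (d * J₁) := by rw [hKJ d hd]; group
        _ = J * J₁ * d := by rw [hd1]; group
  have hgen₂ : ∀ d ∈ K, d * (J * J₁) = (J * J₁) * d → ∀ s ∈ (P : Subgroup G), d * s = s * d := by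
    intro d hd hd2
    apply hgen₁ d hd
    have h1 : J * (d * J₁) = J * (J₁ * d) := by
      calc J * (d * J₁) = (J * d) * J₁ := by group
        _ = d * (J * J₁) := by rw [← hKJ d hd]; group
        _ = J * (J₁ * d) := by rw [hd2]; group
    exact mul_left_cancel h1
  have hN₁ := hcount J₁ g₁ hg₁ hJ₁P hJ₁C hgen₁
  have hN₂ := hcount (J * J₁) g₂ hg₂ ((P : Subgroup G).mul_mem hJP hJ₁P) hJJ₁C hgen₂
  have hN₁c : (Nat.card {a : G // ∃ k ∈ K, a * J * a⁻¹ = J₁ * k} : ℂ)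
      * (Nat.card (Subgroup.centralizer ((P : Subgroup G) : Set G)) : ℂ)
      = (Nat.card C : ℂ) * (Nat.card C : ℂ) := by exact_mod_cast hN₁
  have hN₂c : (Nat.card {a : G // ∃ k ∈ K, a * J * a⁻¹ = J * J₁ * k} : ℂ)
      * (Nat.card (Subgroup.centralizer ((P : Subgroup G) : Set G)) : ℂ)
      = (Nat.card C : ℂ) * (Nat.card C : ℂ) := by exact_mod_cast hN₂
  have hS : (∑ a : G, ∑ b : G,
        (if ∃ k ∈ K, a * J * a⁻¹ * (b * J * b⁻¹) = J * k then (1 : ℂ) else 0))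
      = 2 * ((Nat.card {a : G // ∃ k ∈ K, a * J * a⁻¹ = J₁ * k} : ℂ)
          * (Nat.card {a : G // ∃ k ∈ K, a * J * a⁻¹ = J * J₁ * k} : ℂ)) := by
    rw [← hsum J₁, ← hsum (J * J₁)]
    have e : ∀ a : G, ∑ b : G,
        (if ∃ k ∈ K, a * J * a⁻¹ * (b * J * b⁻¹) = J * k then (1 : ℂ) else 0)
        = (if ∃ k ∈ K, a * J * a⁻¹ = J₁ * k then (1 : ℂ) else 0)
            * ∑ b : G, (if ∃ k ∈ K, b * J * b⁻¹ = J * J₁ * k then (1 : ℂ) else 0)
          + (if ∃ k ∈ K, a * J * a⁻¹ = J * J₁ * k then (1 : ℂ) else 0)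
            * ∑ b : G, (if ∃ k ∈ K, b * J * b⁻¹ = J₁ * k then (1 : ℂ) else 0) := by
      intro a
      rw [Finset.mul_sum, Finset.mul_sum, ← Finset.sum_add_distrib]
      exact Finset.sum_congr rfl (fun b _ => hpt a b)
    rw [Finset.sum_congr rfl (fun a _ => e a), Finset.sum_add_distrib, ← Finset.sum_mul,
      ← Finset.sum_mul]
    ring
  rw [hS]
  calc 2 * ((Nat.card {a : G // ∃ k ∈ K, a * J * a⁻¹ = J₁ * k} : ℂ)
          * (Nat.card {a : G // ∃ k ∈ K, a * J * a⁻¹ = J * J₁ * k} : ℂ))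
        * (Nat.card (Subgroup.centralizer ((P : Subgroup G) : Set G)) : ℂ) ^ 2
      = 2 * (((Nat.card {a : G // ∃ k ∈ K, a * J * a⁻¹ = J₁ * k} : ℂ)
          * (Nat.card (Subgroup.centralizer ((P : Subgroup G) : Set G)) : ℂ))
        * ((Nat.card {a : G // ∃ k ∈ K, a * J * a⁻¹ = J * J₁ * k} : ℂ)
          * (Nat.card (Subgroup.centralizer ((P : Subgroup G) : Set G)) : ℂ))) := by ring
    _ = 2 * (Nat.card C : ℂ) ^ 4 := by rw [hN₁c, hN₂c]; ring

end Cfsg.Agent.Lib.Helper23.Klein
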