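import Mathlib
import Cfsg.Agent.S0942
import Cfsg.Agent.Lib.Helper24.SecondMain2
import Cfsg.Agent.Lib.Helper24.Subsec2
import Cfsg.Agent.Lib.Helper24.ClassMult
import Cfsg.Agent.Lib.Helper24.Defect
import Cfsg.Agent.Lib.Helper25.Codegree
import Cfsg.Agent.Lib.Helper1.CharReg

set_option autoImplicit false
set_option linter.unusedSectionVars false
set_option linter.unusedVariables false
set_option linter.style.haveILetI false

namespace Cfsg.Agent.Lib.Helper23.Klein

open Cfsg Cfsg.Agent.Lib.Helper1 Cfsg.Agent.Lib.Helper6 Cfsg.Agent.Lib.Helper24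
open scoped ComplexConjugate

universe u

variable {G : Type u} [Group G] [Fintype G] {M : Ideal AlgInt}

theorem isPPart_self (J : G) (hJ2 : orderOf J = 2) : IsPPart 2 J J :=
  ⟨1, mul_one J, Commute.one_right J, ⟨1, by rw [hJ2]; norm_num⟩, by rw [orderOf_one]; norm_num⟩

theorem prin_const (hM : IsPModular 2 M) (J : G) (hJ2 : orderOf J = 2)
    (χ : IrrCharacter G) (hχ : χ ∈ principalBlock M G) (k : G)
    (hk : k ∈ centralizerPPrimeCore 2 J) : (χ : G → ℂ) (J * k) = (χ : G → ℂ) J := by
  haveI : Fact (Nat.Prime 2) := ⟨Nat.prime_two⟩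
  exact Cfsg.Agent.S0942.result 2 M hM J ⟨1, by rw [hJ2]; norm_num⟩ k hk χ hχ

open Classical in
theorem nonprin_sum (hM : IsPModular 2 M) (J : G) (hJ2 : orderOf J = 2)
    (hidx : (pPrimeCore 2 (Subgroup.centralizer ({J} : Set G))).index = 4)
    (χ : IrrCharacter G) (hχ : χ ∉ principalBlock M G) :
    ∑ g : G, (if g ∈ centralizerPPrimeCore 2 J then (χ : G → ℂ) (J * g) else 0) = 0 := by
  haveI : Fact (Nat.Prime 2) := ⟨Nat.prime_two⟩
  haveI : Fintype (Subgroup.centralizer ({J} : Set G)) := Fintype.ofFinite _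
  haveI : Fintype (IrrCharacter (Subgroup.centralizer ({J} : Set G))) := irrFintype
  have hJpp := isPPart_self J hJ2
  have hJC : J ∈ Subgroup.centralizer ({J} : Set G) :=
    Subgroup.mem_centralizer_singleton_iff.mpr rfl
  have hind : IsInducedBlock M (Subgroup.centralizer ({J} : Set G))
      (principalBlock M (Subgroup.centralizer ({J} : Set G))) (principalBlock M G) :=
    (Subsec.induced_principal_iff hM J ⟨1, by rw [hJ2]; norm_num⟩ _ rfl _).mpr rfl
  have h := SecondMain.second_main_a hM (Subgroup.centralizer ({J} : Set G))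
    (principalBlock M (Subgroup.centralizer ({J} : Set G))) (principalBlock M G) hind ⟨J, hJC⟩
    (fun z hz => by rw [Subsec.isPPart_unique Nat.prime_two hz hJpp]) χ hχ
  have hOn : (pPrimeCore 2 (Subgroup.centralizer ({J} : Set G))).Normal :=
    Cfsg.Agent.Lib.Lead.Cores.pPrimeCore_normal 2
  have hOcop : (Nat.card (pPrimeCore 2 (Subgroup.centralizer ({J} : Set G)))).Coprime 2 :=
    Cfsg.Agent.Lib.Lead.Cores.pPrimeCore_card_coprime 2
  have hB0 := Cfsg.Agent.S0939.result 2 M hM
    (G := Subgroup.centralizer ({J} : Set G)) ⟨2, by rw [hidx]; norm_num⟩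
  have hcoef1 : ∀ k : Subgroup.centralizer ({J} : Set G),
      k ∉ pPrimeCore 2 (Subgroup.centralizer ({J} : Set G)) →
      blockCoeff (principalBlock M (Subgroup.centralizer ({J} : Set G))) k = 0 := by
    intro k hk
    apply Defect.blockCoeff_eq_zero_of_singular hM _ DefectGroup.isPBlock_principal
    by_contra hodd
    apply hk
    have h1 : k ^ (pPrimeCore 2 (Subgroup.centralizer ({J} : Set G))).index
        ∈ pPrimeCore 2 (Subgroup.centralizer ({J} : Set G)) := Subgroup.pow_index_mem _ k
    rw [hidx] at h1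
    have hcop : Nat.Coprime 4 (orderOf k) := by
      have e : (4 : ℕ) = 2 ^ 2 := by norm_num
      rw [e]
      exact Nat.Coprime.pow_left 2 ((Nat.Prime.coprime_iff_not_dvd Nat.prime_two).mpr hodd)
    obtain ⟨m, hm⟩ := exists_pow_eq_self_of_coprime hcop
    rw [← hm]
    exact Subgroup.pow_mem _ h1 m
  have hcoef2 : ∀ k : Subgroup.centralizer ({J} : Set G),
      k ∈ pPrimeCore 2 (Subgroup.centralizer ({J} : Set G)) →
      blockCoeff (principalBlock M (Subgroup.centralizer ({J} : Set G))) k
        = (Nat.card (Subgroup.centralizer ({J} : Set G)) : ℂ)⁻¹ * 4 := by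
    intro k hk
    unfold blockCoeff
    congr 1
    have e1 : ∑ᶠ ξ ∈ principalBlock M (Subgroup.centralizer ({J} : Set G)),
        (ξ : Subgroup.centralizer ({J} : Set G) → ℂ) 1
          * conj ((ξ : Subgroup.centralizer ({J} : Set G) → ℂ) k)
        = ∑ᶠ ξ ∈ principalBlock M (Subgroup.centralizer ({J} : Set G)),
          (ξ : Subgroup.centralizer ({J} : Set G) → ℂ) 1 ^ 2 := by
      apply finsum_mem_congr rfl
      intro ξ hξ
      have hξ' := hξ
      rw [hB0] at hξ'
      rw [hξ' k hk, CharBasic.char_one_nat (CharBasic.isCharacter_of_irr ξ.2), Complex.conj_natCast,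
        pow_two]
    rw [e1, Subsec.fs]
    have e2 := Cfsg.Agent.Lib.Helper25.Codegree.sum_sq_ker
      (pPrimeCore 2 (Subgroup.centralizer ({J} : Set G)))
    rw [hidx] at e2
    have e3 : ((4 : ℕ) : ℂ) = 4 := by norm_num
    rw [e3] at e2
    rw [← e2]
    apply Finset.sum_congr rfl
    intro ξ _
    have hiff : ξ ∈ principalBlock M (Subgroup.centralizer ({J} : Set G)) ↔
        ∀ n ∈ pPrimeCore 2 (Subgroup.centralizer ({J} : Set G)),
          (ξ : Subgroup.centralizer ({J} : Set G) → ℂ) n
            = (ξ : Subgroup.centralizer ({J} : Set G) → ℂ) 1 := by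
      rw [hB0]
      rfl
    by_cases hξ : ξ ∈ principalBlock M (Subgroup.centralizer ({J} : Set G))
    · rw [if_pos hξ, if_pos (hiff.mp hξ)]
    · rw [if_neg hξ, if_neg (fun h' => hξ (hiff.mpr h'))]
  have hcard : (Nat.card (Subgroup.centralizer ({J} : Set G)) : ℂ) ≠ 0 := by
    exact_mod_cast (Nat.card_pos (α := Subgroup.centralizer ({J} : Set G))).ne'
  have h2 : ∑ k : Subgroup.centralizer ({J} : Set G),
      (if k ∈ pPrimeCore 2 (Subgroup.centralizer ({J} : Set G))
        then (χ : G → ℂ) ((k : G) * J) else 0) = 0 := by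
    have e : ∑ k : Subgroup.centralizer ({J} : Set G),
        blockCoeff (principalBlock M (Subgroup.centralizer ({J} : Set G))) k
          * (χ : G → ℂ) ((k : G) * J)
        = ((Nat.card (Subgroup.centralizer ({J} : Set G)) : ℂ)⁻¹ * 4)
          * ∑ k : Subgroup.centralizer ({J} : Set G),
            (if k ∈ pPrimeCore 2 (Subgroup.centralizer ({J} : Set G))
              then (χ : G → ℂ) ((k : G) * J) else 0) := by
      rw [Finset.mul_sum]
      apply Finset.sum_congr rfl
      intro k _
      by_cases hk : k ∈ pPrimeCore 2 (Subgroup.centralizer ({J} : Set G))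
      · rw [if_pos hk, hcoef2 k hk]
      · rw [if_neg hk, hcoef1 k hk, zero_mul, mul_zero]
    rw [e] at h
    rcases mul_eq_zero.mp h with h' | h'
    · exfalso
      rcases mul_eq_zero.mp h' with h'' | h''
      · exact hcard (inv_eq_zero.mp h'')
      · norm_num at h''
    · exact h'
  rw [Brauer.sum_subgroup (Subgroup.centralizer ({J} : Set G))
    (fun g => if g ∈ centralizerPPrimeCore 2 J then (χ : G → ℂ) (J * g) else 0)
    (fun x hx => if_neg (fun hx' => hx (Subgroup.map_subtype_le _ hx')))]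
  refine Eq.trans ?_ h2
  apply Finset.sum_congr rfl
  intro k _
  have hiff : (k : G) ∈ centralizerPPrimeCore 2 J
      ↔ k ∈ pPrimeCore 2 (Subgroup.centralizer ({J} : Set G)) := by
    constructor
    · rintro ⟨k', hk', hkk'⟩
      have : k' = k := Subtype.ext hkk'
      rw [← this]
      exact hk'
    · intro hk
      exact ⟨k, hk, rfl⟩
  have hcomm : J * (k : G) = (k : G) * J :=
    (Subgroup.mem_centralizer_singleton_iff.mp k.2).symm
  by_cases hk : k ∈ pPrimeCore 2 (Subgroup.centralizer ({J} : Set G))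
  · rw [if_pos hk, if_pos (hiff.mpr hk), hcomm]
  · rw [if_neg hk, if_neg (fun h' => hk (hiff.mp h'))]

end Cfsg.Agent.Lib.Helper23.Klein
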