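import Mathlib
import Cfsg.Agent.Lib.Helper23.Klein3

set_option autoImplicit false
set_option linter.unusedSectionVars false
set_option linter.unusedVariables false
set_option linter.style.haveILetI false

namespace Cfsg.Agent.Lib.Helper23.Klein

open Cfsg Cfsg.Agent.Lib.Helper1 Cfsg.Agent.Lib.Helper6 Cfsg.Agent.Lib.Helper24
open scoped ComplexConjugate

universe u

variable {G : Type u} [Group G] [Fintype G] {M : Ideal AlgInt}

theorem reg_delta [Fintype (IrrCharacter G)] [DecidableEq G] (g : G) :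
    ∑ χ : IrrCharacter G, (χ : G → ℂ) 1 * (χ : G → ℂ) g
      = if g = 1 then (Nat.card G : ℂ) else 0 := by
  by_cases hg : g = 1
  · rw [if_pos hg, hg, ← sum_sq_degrees]
    apply Finset.sum_congr rfl
    intro χ _
    rw [pow_two]
  · rw [if_neg hg]
    exact ClassMult.reg_orth g hg

open Classical in
theorem class_count [Fintype (IrrCharacter G)] (J z : G) :
    ∑ a : G, ∑ b : G, (if a * J * a⁻¹ * (b * J * b⁻¹) = z then (1 : ℂ) else 0)
      = (Nat.card G : ℂ)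
        * ∑ χ : IrrCharacter G, (χ : G → ℂ) J ^ 2 * (χ : G → ℂ) z⁻¹ / (χ : G → ℂ) 1 := by
  have hcard : (Nat.card G : ℂ) ≠ 0 := by
    exact_mod_cast (Nat.card_pos (α := G)).ne'
  have hpt : ∀ a b : G, (if a * J * a⁻¹ * (b * J * b⁻¹) = z then (1 : ℂ) else 0)
      = (Nat.card G : ℂ)⁻¹ * ∑ χ : IrrCharacter G,
          (χ : G → ℂ) 1 * (χ : G → ℂ) (a * J * a⁻¹ * (b * J * b⁻¹) * z⁻¹) := by
    intro a b
    rw [reg_delta]
    by_cases h : a * J * a⁻¹ * (b * J * b⁻¹) = z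
    · rw [if_pos h, if_pos (by rw [h]; group), inv_mul_cancel₀ hcard]
    · rw [if_neg h, if_neg (fun h' => h (mul_inv_eq_one.mp h')), mul_zero]
  rw [Finset.sum_congr rfl (fun a _ => Finset.sum_congr rfl (fun b _ => hpt a b))]
  have e1 : ∑ a : G, ∑ b : G, (Nat.card G : ℂ)⁻¹ * ∑ χ : IrrCharacter G,
        (χ : G → ℂ) 1 * (χ : G → ℂ) (a * J * a⁻¹ * (b * J * b⁻¹) * z⁻¹)
      = (Nat.card G : ℂ)⁻¹ * ∑ χ : IrrCharacter G, ∑ a : G, ∑ b : G,
        (χ : G → ℂ) 1 * (χ : G → ℂ) (a * J * a⁻¹ * (b * J * b⁻¹) * z⁻¹) := by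
    have ea : ∀ a : G, ∑ b : G, (Nat.card G : ℂ)⁻¹ * ∑ χ : IrrCharacter G,
          (χ : G → ℂ) 1 * (χ : G → ℂ) (a * J * a⁻¹ * (b * J * b⁻¹) * z⁻¹)
        = (Nat.card G : ℂ)⁻¹ * ∑ b : G, ∑ χ : IrrCharacter G,
          (χ : G → ℂ) 1 * (χ : G → ℂ) (a * J * a⁻¹ * (b * J * b⁻¹) * z⁻¹) :=
      fun a => (Finset.mul_sum _ _ _).symm
    rw [Finset.sum_congr rfl (fun a _ => ea a), ← Finset.mul_sum]
    congr 1
    calc ∑ a : G, ∑ b : G, ∑ χ : IrrCharacter G,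
          (χ : G → ℂ) 1 * (χ : G → ℂ) (a * J * a⁻¹ * (b * J * b⁻¹) * z⁻¹)
        = ∑ a : G, ∑ χ : IrrCharacter G, ∑ b : G,
          (χ : G → ℂ) 1 * (χ : G → ℂ) (a * J * a⁻¹ * (b * J * b⁻¹) * z⁻¹) := by
          apply Finset.sum_congr rfl
          intro a _
          exact Finset.sum_comm
      _ = ∑ χ : IrrCharacter G, ∑ a : G, ∑ b : G,
          (χ : G → ℂ) 1 * (χ : G → ℂ) (a * J * a⁻¹ * (b * J * b⁻¹) * z⁻¹) := Finset.sum_comm
  rw [e1, Finset.mul_sum, Finset.mul_sum]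
  apply Finset.sum_congr rfl
  intro χ _
  have h1 : (χ : G → ℂ) 1 ≠ 0 := CharBasic.irr_one_ne_zero χ.2
  have hcs := ClassMult.cs3 χ.2 J J z⁻¹
  have e2 : ∑ a : G, ∑ b : G,
        (χ : G → ℂ) 1 * (χ : G → ℂ) (a * J * a⁻¹ * (b * J * b⁻¹) * z⁻¹)
      = (χ : G → ℂ) 1 * ∑ a : G, ∑ b : G, (χ : G → ℂ) (a * J * a⁻¹ * (b * J * b⁻¹) * z⁻¹) := by
    simp only [← Finset.mul_sum]
  rw [e2]
  have e3 : ∑ a : G, ∑ b : G, (χ : G → ℂ) (a * J * a⁻¹ * (b * J * b⁻¹) * z⁻¹)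
      = (Nat.card G : ℂ) ^ 2 * ((χ : G → ℂ) J * (χ : G → ℂ) J * (χ : G → ℂ) z⁻¹)
        / (χ : G → ℂ) 1 ^ 2 := by
    rw [eq_div_iff (pow_ne_zero 2 h1), mul_comm]
    exact hcs
  rw [e3]
  field_simp

theorem orth_reg (hM : IsPModular 2 M) (J : G) (hJ2 : orderOf J = 2) (g : G)
    (hg : ¬ 2 ∣ orderOf g) :
    ∑ᶠ χ ∈ principalBlock M G, (χ : G → ℂ) J * (χ : G → ℂ) g⁻¹ = 0 := by
  have hJ1 : J ≠ 1 := by
    rintro rfl
    rw [orderOf_one] at hJ2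
    norm_num at hJ2
  exact SecondMain.block_orth hM J g J 1 (isPPart_self J hJ2)
    ⟨g, one_mul g, Commute.one_left g, ⟨0, by rw [orderOf_one, pow_zero]⟩, hg⟩
    (fun h => hJ1 (isConj_one_left.mp h)) (principalBlock M G) DefectGroup.isPBlock_principal

theorem finsum_four (χ₁ χ₂ χ₃ : IrrCharacter G)
    (hB : principalBlock M G = {χ : IrrCharacter G |
      (χ : G → ℂ) = (fun _ => 1) ∨ χ = χ₁ ∨ χ = χ₂ ∨ χ = χ₃})
    (hdist : (χ₁ : G → ℂ) ≠ (fun _ => 1) ∧ (χ₂ : G → ℂ) ≠ (fun _ => 1) ∧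
      (χ₃ : G → ℂ) ≠ (fun _ => 1) ∧ χ₁ ≠ χ₂ ∧ χ₁ ≠ χ₃ ∧ χ₂ ≠ χ₃)
    (f : IrrCharacter G → ℂ) :
    ∑ᶠ χ ∈ principalBlock M G, f χ
      = f ⟨fun _ => 1, CharBasic.irr_trivial⟩ + f χ₁ + f χ₂ + f χ₃ := by
  classical
  obtain ⟨h1, h2, h3, h12, h13, h23⟩ := hdist
  have hset : principalBlock M G
      = (({⟨fun _ => 1, CharBasic.irr_trivial⟩, χ₁, χ₂, χ₃} : Finset (IrrCharacter G)) :
          Set (IrrCharacter G)) := by
    rw [hB]
    ext χ
    simp only [Set.mem_ofPred_eq, Finset.coe_insert, Finset.coe_singleton, Set.mem_insert_iff,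
      Set.mem_singleton_iff]
    constructor
    · rintro (h | h | h | h)
      · exact Or.inl (Subtype.ext h)
      · exact Or.inr (Or.inl h)
      · exact Or.inr (Or.inr (Or.inl h))
      · exact Or.inr (Or.inr (Or.inr h))
    · rintro (h | h | h | h)
      · exact Or.inl (by rw [h])
      · exact Or.inr (Or.inl h)
      · exact Or.inr (Or.inr (Or.inl h))
      · exact Or.inr (Or.inr (Or.inr h))
  have ht : ∀ χ : IrrCharacter G, (χ : G → ℂ) ≠ (fun _ => 1) →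
      (⟨fun _ => 1, CharBasic.irr_trivial⟩ : IrrCharacter G) ≠ χ := by
    intro χ hχ h
    apply hχ
    rw [← h]
  rw [hset, finsum_mem_coe_finset, Finset.sum_insert, Finset.sum_insert, Finset.sum_insert,
    Finset.sum_singleton]
  · ring
  · rw [Finset.mem_singleton]
    exact h23
  · rw [Finset.mem_insert, Finset.mem_singleton, not_or]
    exact ⟨h12, h13⟩
  · rw [Finset.mem_insert, Finset.mem_insert, Finset.mem_singleton, not_or, not_or]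
    exact ⟨ht χ₁ h1, ht χ₂ h2, ht χ₃ h3⟩

end Cfsg.Agent.Lib.Helper23.Klein
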