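import Mathlib
import Cfsg.Agent.Lib.Helper23.Klein3b

set_option autoImplicit false
set_option linter.unusedSectionVars false
set_option linter.unusedVariables false
set_option linter.style.haveILetI false

namespace Cfsg.Agent.Lib.Helper23.Klein

open Cfsg Cfsg.Agent.Lib.Helper1 Cfsg.Agent.Lib.Helper6 Cfsg.Agent.Lib.Helper24
open scoped ComplexConjugate

universe u

variable {G : Type u} [Group G] [Fintype G] {M : Ideal AlgInt}

open Classical in
theorem sum_mem_const (K : Subgroup G) (c : ℂ) :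
    ∑ g : G, (if g ∈ K then c else 0) = (Nat.card K : ℂ) * c := by
  rw [Finset.sum_ite, Finset.sum_const_zero, add_zero, Finset.sum_const, nsmul_eq_mul,
    Nat.card_eq_fintype_card, Fintype.card_subtype]

open Classical in
theorem main_identity [Fintype (IrrCharacter G)] (hM : IsPModular 2 M) (J : G)
    (hJ2 : orderOf J = 2)
    (hidx : (pPrimeCore 2 (Subgroup.centralizer ({J} : Set G))).index = 4) :
    ∑ a : G, ∑ b : G,
        (if ∃ k ∈ centralizerPPrimeCore 2 J, a * J * a⁻¹ * (b * J * b⁻¹) = J * k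
          then (1 : ℂ) else 0)
      = (Nat.card G : ℂ) * (Nat.card (centralizerPPrimeCore 2 J) : ℂ)
          * ∑ᶠ χ ∈ principalBlock M G, (χ : G → ℂ) J ^ 3 / (χ : G → ℂ) 1 := by
  obtain ⟨K, hK⟩ : ∃ K : Subgroup G, K = centralizerPPrimeCore 2 J := ⟨_, rfl⟩
  rw [← hK]
  have hJJ : J * J = 1 := by rw [← pow_two, ← hJ2, pow_orderOf_eq_one]
  have Jinv : J⁻¹ = J := inv_eq_of_mul_eq_one_left hJJ
  have hpt : ∀ a b : G,
      (if ∃ k ∈ K, a * J * a⁻¹ * (b * J * b⁻¹) = J * k then (1 : ℂ) else 0)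
      = ∑ g : G, (if g ∈ K then
          (if a * J * a⁻¹ * (b * J * b⁻¹) = J * g then (1 : ℂ) else 0) else 0) := by
    intro a b
    rw [Finset.sum_eq_single (J⁻¹ * (a * J * a⁻¹ * (b * J * b⁻¹)))]
    · by_cases h : ∃ k ∈ K, a * J * a⁻¹ * (b * J * b⁻¹) = J * k
      · obtain ⟨k, hk, hk'⟩ := h
        have e : J⁻¹ * (a * J * a⁻¹ * (b * J * b⁻¹)) = k := by rw [hk']; group
        rw [if_pos ⟨k, hk, hk'⟩, e, if_pos hk, if_pos hk']
      · rw [if_neg h]
        by_cases h2 : J⁻¹ * (a * J * a⁻¹ * (b * J * b⁻¹)) ∈ K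
        · exfalso
          exact h ⟨_, h2, by group⟩
        · rw [if_neg h2]
    · intro g _ hg
      by_cases h1 : g ∈ K
      · rw [if_pos h1, if_neg]
        intro h2
        apply hg
        rw [h2]
        group
      · rw [if_neg h1]
    · intro h
      exact absurd (Finset.mem_univ _) h
  rw [Finset.sum_congr rfl (fun a _ => Finset.sum_congr rfl (fun b _ => hpt a b))]
  have e1 : ∑ a : G, ∑ b : G, ∑ g : G, (if g ∈ K then
          (if a * J * a⁻¹ * (b * J * b⁻¹) = J * g then (1 : ℂ) else 0) else 0)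
      = ∑ g : G, (if g ∈ K then ∑ a : G, ∑ b : G,
          (if a * J * a⁻¹ * (b * J * b⁻¹) = J * g then (1 : ℂ) else 0) else 0) := by
    calc ∑ a : G, ∑ b : G, ∑ g : G, (if g ∈ K then
          (if a * J * a⁻¹ * (b * J * b⁻¹) = J * g then (1 : ℂ) else 0) else 0)
        = ∑ a : G, ∑ g : G, ∑ b : G, (if g ∈ K then
          (if a * J * a⁻¹ * (b * J * b⁻¹) = J * g then (1 : ℂ) else 0) else 0) := by
          apply Finset.sum_congr rfl
          intro a _
          exact Finset.sum_comm
      _ = ∑ g : G, ∑ a : G, ∑ b : G, (if g ∈ K then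
          (if a * J * a⁻¹ * (b * J * b⁻¹) = J * g then (1 : ℂ) else 0) else 0) :=
          Finset.sum_comm
      _ = ∑ g : G, (if g ∈ K then ∑ a : G, ∑ b : G,
          (if a * J * a⁻¹ * (b * J * b⁻¹) = J * g then (1 : ℂ) else 0) else 0) := by
          apply Finset.sum_congr rfl
          intro g _
          by_cases hg : g ∈ K
          · simp only [if_pos hg]
          · simp only [if_neg hg, Finset.sum_const_zero]
  rw [e1]
  have e2 : ∀ g : G, (if g ∈ K then ∑ a : G, ∑ b : G,
          (if a * J * a⁻¹ * (b * J * b⁻¹) = J * g then (1 : ℂ) else 0) else 0)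
      = (Nat.card G : ℂ) * ∑ χ : IrrCharacter G, (χ : G → ℂ) J ^ 2 / (χ : G → ℂ) 1
          * (if g ∈ K then (χ : G → ℂ) (J * g)⁻¹ else 0) := by
    intro g
    by_cases hg : g ∈ K
    · rw [if_pos hg, class_count]
      congr 1
      apply Finset.sum_congr rfl
      intro χ _
      rw [if_pos hg]
      ring
    · rw [if_neg hg]
      simp only [if_neg hg, mul_zero, Finset.sum_const_zero]
  rw [Finset.sum_congr rfl (fun g _ => e2 g), ← Finset.mul_sum, Finset.sum_comm, mul_assoc]
  congr 1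
  rw [Subsec.fs, Finset.mul_sum]
  apply Finset.sum_congr rfl
  intro χ _
  rw [← Finset.mul_sum]
  have hconj : ∑ g : G, (if g ∈ K then (χ : G → ℂ) (J * g)⁻¹ else 0)
      = conj (∑ g : G, (if g ∈ K then (χ : G → ℂ) (J * g) else 0)) := by
    rw [map_sum]
    apply Finset.sum_congr rfl
    intro g _
    by_cases hg : g ∈ K
    · rw [if_pos hg, if_pos hg, CharBasic.char_inv (CharBasic.isCharacter_of_irr χ.2)]
    · rw [if_neg hg, if_neg hg, map_zero]
  rw [hconj]
  by_cases hχ : χ ∈ principalBlock M G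
  · rw [if_pos hχ]
    have e3 : ∑ g : G, (if g ∈ K then (χ : G → ℂ) (J * g) else 0)
        = (Nat.card K : ℂ) * (χ : G → ℂ) J := by
      have e4 : ∀ g : G, (if g ∈ K then (χ : G → ℂ) (J * g) else 0)
          = (if g ∈ K then (χ : G → ℂ) J else 0) := by
        intro g
        by_cases hg : g ∈ K
        · rw [if_pos hg, if_pos hg, prin_const hM J hJ2 χ hχ g (hK ▸ hg)]
        · rw [if_neg hg, if_neg hg]
      rw [Finset.sum_congr rfl (fun g _ => e4 g), sum_mem_const]
    rw [e3, map_mul, Complex.conj_natCast]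
    have hreal : conj ((χ : G → ℂ) J) = (χ : G → ℂ) J := by
      rw [← CharBasic.char_inv (CharBasic.isCharacter_of_irr χ.2), Jinv]
    rw [hreal]
    ring
  · rw [if_neg hχ]
    have h0 := nonprin_sum hM J hJ2 hidx χ hχ
    rw [← hK] at h0
    rw [h0, map_zero, mul_zero, mul_zero]

end Cfsg.Agent.Lib.Helper23.Klein
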