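import Mathlib
import Cfsg.Agent.Lib.Helper23.Klein1b
import Cfsg.Agent.Lib.Helper23.Klein2c
import Cfsg.Agent.Lib.Helper23.Klein3c

set_option autoImplicit false
set_option linter.unusedSectionVars false
set_option linter.unusedVariables false
set_option linter.style.haveILetI false

namespace Cfsg.Agent.Lib.Helper23.Klein

open Cfsg Cfsg.Agent.Lib.Helper1 Cfsg.Agent.Lib.Helper6 Cfsg.Agent.Lib.Helper24
open scoped ComplexConjugate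

universe u

theorem setup {G : Type u} [Group G] [Finite G] (g₀ : ℕ) (hg₀ : Odd g₀)
    (hG : Nat.card G = 4 * g₀) (hnc : ¬ ∃ N : Subgroup G, N.Normal ∧ Nat.card N = g₀)
    (P : Sylow 2 G) (J : G) (hJ : J ∈ (P : Subgroup G)) (hJ2 : orderOf J = 2) :
    Nat.card (P : Subgroup G) = 4 ∧ J ≠ 1 ∧ J * J = 1 ∧
    ∃ J₁ g₁ g₂ : G, J₁ ∈ (P : Subgroup G) ∧ J₁ = g₁ * J * g₁⁻¹ ∧ J * J₁ = g₂ * J * g₂⁻¹ ∧
      (∀ t ∈ (P : Subgroup G), t = 1 ∨ t = J ∨ t = J₁ ∨ t = J * J₁) ∧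
      (centralizerPPrimeCore 2 J ≤ Subgroup.centralizer ({J} : Set G)) ∧
      (∀ c ∈ Subgroup.centralizer ({J} : Set G), ∀ k ∈ centralizerPPrimeCore 2 J,
        c * k * c⁻¹ ∈ centralizerPPrimeCore 2 J) ∧
      (Nat.card (centralizerPPrimeCore 2 J) * 4
        = Nat.card (Subgroup.centralizer ({J} : Set G))) ∧
      (∀ c ∈ Subgroup.centralizer ({J} : Set G), ∃ k ∈ centralizerPPrimeCore 2 J,
        ∃ t ∈ (P : Subgroup G), c = k * t) ∧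
      ((pPrimeCore 2 (Subgroup.centralizer ({J} : Set G))).index = 4) ∧
      (Nat.card (centralizerPPrimeCore 2 J)).Coprime 2 := by
  have h4 := sylow_card g₀ hg₀ hG P
  have hJ1 : J ≠ 1 := by
    rintro rfl
    rw [orderOf_one] at hJ2
    norm_num at hJ2
  have hJJ : J * J = 1 := by rw [← pow_two, ← hJ2, pow_orderOf_eq_one]
  have hnot := not_le g₀ hG hnc P h4
  obtain ⟨J₁, g₁, g₂, hJ₁P, hJ₁1, hJ₁J, hg₁, hg₂, hall⟩ := fusion P h4 hnot J hJ hJ1 hJJ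
  obtain ⟨c1, c2, c3, c4, c5, c6⟩ := cent_struct P h4 J J₁ hJ hJ1 hJJ hJ₁P hJ₁1 hJ₁J hall
  exact ⟨h4, hJ1, hJJ, J₁, g₁, g₂, hJ₁P, hg₁, hg₂, hall, c1, c2, c3, c4, c5, c6⟩

theorem klein_core {G : Type u} [Group G] [Finite G] (M : Ideal AlgInt) (hM : IsPModular 2 M)
    (g₀ : ℕ) (hg₀ : Odd g₀) (hG : Nat.card G = 4 * g₀)
    (hnc : ¬ ∃ N : Subgroup G, N.Normal ∧ Nat.card N = g₀) (P : Sylow 2 G) (J : G)
    (hJ : J ∈ (P : Subgroup G)) (hJ2 : orderOf J = 2) (χ₁ χ₂ χ₃ : IrrCharacter G)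
    (ε₁ ε₂ ε₃ : ℤ)
    (hB : principalBlock M G = {χ : IrrCharacter G |
      (χ : G → ℂ) = (fun _ => 1) ∨ χ = χ₁ ∨ χ = χ₂ ∨ χ = χ₃})
    (hdist : (χ₁ : G → ℂ) ≠ (fun _ => 1) ∧ (χ₂ : G → ℂ) ≠ (fun _ => 1) ∧
      (χ₃ : G → ℂ) ≠ (fun _ => 1) ∧ χ₁ ≠ χ₂ ∧ χ₁ ≠ χ₃ ∧ χ₂ ≠ χ₃)
    (hε : (ε₁ = 1 ∨ ε₁ = -1) ∧ (ε₂ = 1 ∨ ε₂ = -1) ∧ (ε₃ = 1 ∨ ε₃ = -1))
    (hval : (χ₁ : G → ℂ) J = ε₁ ∧ (χ₂ : G → ℂ) J = ε₂ ∧ (χ₃ : G → ℂ) J = ε₃) :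
    (Nat.card G : ℂ) * (1 + (ε₁ : ℂ) / (charDegree (χ₁ : G → ℂ) : ℂ)
        + (ε₂ : ℂ) / (charDegree (χ₂ : G → ℂ) : ℂ) + (ε₃ : ℂ) / (charDegree (χ₃ : G → ℂ) : ℂ))
        * (Nat.card (Subgroup.centralizer ((P : Subgroup G) : Set G)) : ℂ) ^ 2
      = 8 * (Nat.card (Subgroup.centralizer ({J} : Set G)) : ℂ) ^ 3 ∧
    (1 + (ε₁ : ℂ) * (charDegree (χ₁ : G → ℂ) : ℂ) + (ε₂ : ℂ) * (charDegree (χ₂ : G → ℂ) : ℂ)
        + (ε₃ : ℂ) * (charDegree (χ₃ : G → ℂ) : ℂ) = 0) := by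
  classical
  haveI : Fintype G := Fintype.ofFinite G
  haveI : Fintype (IrrCharacter G) := irrFintype
  obtain ⟨h4, hJ1, hJJ, J₁, g₁, g₂, hJ₁P, hg₁, hg₂, hall, hKC, hnorm, hKcard, hdec, hidx,
    hKcop⟩ := setup g₀ hg₀ hG hnc P J hJ hJ2
  have hx₁ := CharBasic.char_one_nat (CharBasic.isCharacter_of_irr χ₁.2)
  have hx₂ := CharBasic.char_one_nat (CharBasic.isCharacter_of_irr χ₂.2)
  have hx₃ := CharBasic.char_one_nat (CharBasic.isCharacter_of_irr χ₃.2)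
  obtain ⟨hv₁, hv₂, hv₃⟩ := hval
  have hcube : ∀ ε : ℤ, (ε = 1 ∨ ε = -1) → ((ε : ℂ)) ^ 3 = (ε : ℂ) := by
    rintro ε (rfl | rfl) <;> norm_num
  constructor
  · have E := main_identity hM J hJ2 hidx
    rw [finsum_four χ₁ χ₂ χ₃ hB hdist (fun χ => (χ : G → ℂ) J ^ 3 / (χ : G → ℂ) 1)] at E
    simp only [hv₁, hv₂, hv₃, hx₁, hx₂, hx₃, hcube ε₁ hε.1, hcube ε₂ hε.2.1, hcube ε₃ hε.2.2]
      at E
    have cs := count_S P h4 (Subgroup.centralizer ({J} : Set G)) (centralizerPPrimeCore 2 J)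
      J J₁ g₁ g₂ (fun c => Subgroup.mem_centralizer_singleton_iff) hKC hnorm hKcard hKcop hdec
      hall hJ hJ₁P hJ1 hJJ hg₁ hg₂
    rw [E] at cs
    have hKc : (Nat.card (centralizerPPrimeCore 2 J) : ℂ) * 4
        = (Nat.card (Subgroup.centralizer ({J} : Set G)) : ℂ) := by exact_mod_cast hKcard
    have hcJ : (Nat.card (Subgroup.centralizer ({J} : Set G)) : ℂ) ≠ 0 := by
      exact_mod_cast (Nat.card_pos (α := Subgroup.centralizer ({J} : Set G))).ne'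
    apply mul_left_cancel₀ hcJ
    rw [← hKc]
    rw [← hKc] at cs
    linear_combination 4 * cs
  · have h := orth_reg hM J hJ2 1 (by rw [orderOf_one]; norm_num)
    rw [finsum_four χ₁ χ₂ χ₃ hB hdist (fun χ => (χ : G → ℂ) J * (χ : G → ℂ) 1⁻¹)] at h
    simp only [inv_one, hv₁, hv₂, hv₃, hx₁, hx₂, hx₃] at h
    linear_combination h

end Cfsg.Agent.Lib.Helper23.Klein
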