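import Mathlib

namespace Cfsg.Agent.Lib.Helper23.SylowCount

open MulAction

variable {G : Type*} [Group G] {p : ℕ}

theorem card_sylow_subgroup_eq (M : Subgroup G) (h : ∀ Q : Sylow p G, (Q : Subgroup G) ≤ M) :
    Nat.card (Sylow p M) = Nat.card (Sylow p G) := by
  symm
  apply Nat.card_congr
  refine Equiv.ofBijective (fun Q => Q.subtype (h Q)) ⟨?_, ?_⟩
  · intro Q R hQR
    exact Sylow.subtype_injective hQR
  · intro Q'
    obtain ⟨Q, hQ⟩ := (Q'.isPGroup'.map M.subtype).exists_le_sylow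
    refine ⟨Q, ?_⟩
    apply Sylow.ext
    have h1 : (Q' : Subgroup M) ≤ (Q.subtype (h Q) : Sylow p M) := by
      intro x hx
      rw [Sylow.coe_subtype]
      rw [Subgroup.mem_subgroupOf]
      exact hQ ⟨x, hx, rfl⟩
    exact Q'.3 (Q.subtype (h Q)).isPGroup' h1

theorem sylow_le_of_not_dvd_index [Finite G] [Fact p.Prime] (M : Subgroup G) [M.Normal] (hM : ¬ p ∣ M.index)
    (Q : Sylow p G) : (Q : Subgroup G) ≤ M := by
  have hp : p.Prime := Fact.out
  intro x hx
  obtain ⟨k, hk⟩ := Q.isPGroup' ⟨x, hx⟩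
  have hk' : x ^ p ^ k = 1 := by
    have := congrArg Subtype.val hk
    simpa using this
  have h1 : (x : G ⧸ M) ^ p ^ k = 1 := by
    rw [← QuotientGroup.mk_pow, hk']
    rfl
  have h2 : (x : G ⧸ M) ^ M.index = 1 := by
    rw [Subgroup.index_eq_card]
    exact pow_card_eq_one'
  have h3 : (x : G ⧸ M) ^ Nat.gcd (p ^ k) M.index = 1 := pow_gcd_eq_one.2 ⟨h1, h2⟩
  have h4 : Nat.gcd (p ^ k) M.index = 1 :=
    Nat.Coprime.pow_left k ((Nat.Prime.coprime_iff_not_dvd hp).2 hM)
  rw [h4, pow_one] at h3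
  exact (QuotientGroup.eq_one_iff x).1 h3

theorem card_sylow_quotient_eq [Finite G] [Fact p.Prime] (K : Subgroup G) [K.Normal]
    (hK : ∀ Q : Sylow p G, K ≤ Subgroup.normalizer ((Q : Subgroup G) : Set G)) :
    Nat.card (Sylow p (G ⧸ K)) = Nat.card (Sylow p G) := by
  symm
  apply Nat.card_congr
  refine Equiv.ofBijective (Sylow.mapSurjective (QuotientGroup.mk'_surjective K)) ⟨?_, ?_⟩
  · intro Q R hQR
    have h1 : (Q : Subgroup G).map (QuotientGroup.mk' K) = (R : Subgroup G).map (QuotientGroup.mk' K) := by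
      have := congrArg (fun S : Sylow p (G ⧸ K) => (S : Subgroup (G ⧸ K))) hQR
      simpa using this
    have h2 : (R : Subgroup G) ≤ Subgroup.normalizer ((Q : Subgroup G) : Set G) := by
      intro r hr
      have h3 : (QuotientGroup.mk' K) r ∈ (Q : Subgroup G).map (QuotientGroup.mk' K) := by
        rw [h1]
        exact ⟨r, hr, rfl⟩
      obtain ⟨q, hq, hqr⟩ := h3
      have h4 : q⁻¹ * r ∈ K := by
        rw [← QuotientGroup.eq]
        exact hqr
      have h5 : r = q * (q⁻¹ * r) := by group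
      rw [h5]
      exact Subgroup.mul_mem _ (Subgroup.le_normalizer hq) (hK Q h4)
    have h6 : (R : Subgroup G) ≤ Q := by
      have h7 : (R : Subgroup G) ⊓ Subgroup.normalizer ((Q : Subgroup G) : Set G) = (R : Subgroup G) ⊓ Q :=
        R.isPGroup'.inf_normalizer_sylow Q
      rw [inf_eq_left.2 h2] at h7
      exact inf_eq_left.1 h7.symm
    exact (Sylow.ext (R.3 Q.isPGroup' h6))
  · exact Sylow.mapSurjective_surjective _ p

theorem relIndex_centralizer_normalizer_dvd [Finite G] (H : Subgroup G) (hH : IsCyclic H) :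
    (Subgroup.centralizer (H : Set G)).relIndex (Subgroup.normalizer (H : Set G)) ∣
      Nat.totient (Nat.card H) := by
  have key := Subgroup.card_dvd_of_injective _ (QuotientGroup.kerLift_injective H.normalizerMonoidHom)
  rw [Subgroup.normalizerMonoidHom_ker, ← Subgroup.index, ← Subgroup.relIndex] at key
  rwa [hH.card_mulAut] at key

theorem exists_normal_of_normalizer_le [Finite G] [Fact p.Prime] (F : Sylow p G)
    (h : Subgroup.normalizer ((F : Subgroup G) : Set G) ≤ Subgroup.centralizer ((F : Subgroup G) : Set G)) :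
    ∃ M : Subgroup G, M.Normal ∧ M.index = Nat.card (F : Subgroup G) := by
  refine ⟨(MonoidHom.transferSylow F h).ker, inferInstance, ?_⟩
  exact (MonoidHom.ker_transferSylow_isComplement' F h).symm.index_eq_card

theorem stabilizer_eq (P Q : Sylow p G) :
    stabilizer (P : Subgroup G) Q = ((P : Subgroup G) ⊓ Q).subgroupOf P := by
  ext ⟨u, hu⟩
  rw [mem_stabilizer_iff, Subgroup.mem_subgroupOf]
  show u • Q = Q ↔ u ∈ (P : Subgroup G) ⊓ Q
  rw [Sylow.smul_eq_iff_mem_normalizer, ← P.isPGroup'.inf_normalizer_sylow Q]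
  simp [hu]

theorem smul_ne_of_ne (P Q : Sylow p G) (hPQ : P ≠ Q) (u : G)
    (hu : u ∈ Subgroup.normalizer ((P : Subgroup G) : Set G)) : u • Q ≠ P := by
  intro h1
  apply hPQ
  have h3 : u⁻¹ • P = P :=
    Sylow.smul_eq_iff_mem_normalizer.2 (Subgroup.inv_mem _ hu)
  have h2 : u⁻¹ • (u • Q) = Q := inv_smul_smul _ _
  have h4 : u⁻¹ • (u • Q) = u⁻¹ • P := congrArg (fun R => u⁻¹ • R) h1
  rw [← h3, ← h4, h2]

end Cfsg.Agent.Lib.Helper23.SylowCount
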