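import Mathlib

namespace Cfsg.Agent.Lib.Helper23.SylowSmall

open MulAction

variable {G : Type*} [Group G] [Finite G] {p : ℕ} [Fact p.Prime]

theorem card_sylow_ge_of_le {D : Subgroup G} (hD : IsPGroup p D) (P Q : Sylow p G) (hPQ : P ≠ Q)
    (hP : D ≤ P) (hQ : D ≤ Q) :
    p + 1 ≤ Nat.card {R : Sylow p G // D ≤ R} := by
  have hp : p.Prime := Fact.out
  have h1 : Nat.card (Sylow p G) ≡ Nat.card (fixedPoints D (Sylow p G)) [MOD p] :=
    hD.card_modEq_card_fixedPoints _
  have h2 : Nat.card (fixedPoints D (Sylow p G)) = Nat.card {R : Sylow p G // D ≤ R} := by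
    apply Nat.card_congr
    exact Equiv.subtypeEquivRight (fun R => hD.sylow_mem_fixedPoints_iff)
  have h3 : Nat.card (Sylow p G) ≡ 1 [MOD p] := card_sylow_modEq_one p G
  rw [h2] at h1
  have h4 : Nat.card {R : Sylow p G // D ≤ R} ≡ 1 [MOD p] := h1.symm.trans h3
  have h5 : 1 < Nat.card {R : Sylow p G // D ≤ R} := by
    rw [Finite.one_lt_card_iff_nontrivial]
    exact ⟨⟨⟨P, hP⟩, ⟨Q, hQ⟩, fun h => hPQ (congrArg Subtype.val h)⟩⟩
  have h6 : p ∣ Nat.card {R : Sylow p G // D ≤ R} - 1 :=
    (Nat.modEq_iff_dvd' (by omega)).1 h4.symm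
  have h7 := Nat.le_of_dvd (by omega) h6
  omega

theorem card_eq_mul_card_inf (hn : Nat.card (Sylow p G) < p ^ 2) (P Q : Sylow p G) (hPQ : P ≠ Q) :
    Nat.card (P : Subgroup G) = p * Nat.card ((P : Subgroup G) ⊓ Q : Subgroup G) := by
  have hp : p.Prime := Fact.out
  have hstab : stabilizer (P : Subgroup G) Q = ((P : Subgroup G) ⊓ Q).subgroupOf P := by
    ext ⟨u, hu⟩
    rw [mem_stabilizer_iff, Subgroup.mem_subgroupOf]
    show u • Q = Q ↔ u ∈ (P : Subgroup G) ⊓ Q
    rw [Sylow.smul_eq_iff_mem_normalizer, ← P.isPGroup'.inf_normalizer_sylow Q]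
    simp [hu]
  have hidx : (stabilizer (P : Subgroup G) Q).index = (orbit (P : Subgroup G) Q).ncard :=
    index_stabilizer _ _
  have hsub : orbit (P : Subgroup G) Q ⊆ {R : Sylow p G | R ≠ P} := by
    rintro R ⟨u, rfl⟩
    intro h
    apply hPQ
    have h1 : (u : G) • Q = P := h
    have h3 : (u : G)⁻¹ • P = P :=
      Sylow.smul_eq_iff_mem_normalizer.2 (Subgroup.le_normalizer (Subgroup.inv_mem _ u.2))
    have h2 : (u : G)⁻¹ • ((u : G) • Q) = Q := inv_smul_smul _ _
    have h4 : (u : G)⁻¹ • ((u : G) • Q) = (u : G)⁻¹ • P := congrArg (fun R => (u : G)⁻¹ • R) h1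
    rw [← h3, ← h4, h2]
  have hle : (orbit (P : Subgroup G) Q).ncard < Nat.card (Sylow p G) := by
    have h1 : (orbit (P : Subgroup G) Q).ncard ≤ ({R : Sylow p G | R ≠ P}).ncard :=
      Set.ncard_le_ncard hsub (Set.toFinite _)
    have h2 : ({R : Sylow p G | R ≠ P}).ncard < (Set.univ : Set (Sylow p G)).ncard := by
      apply Set.ncard_lt_ncard _ (Set.toFinite _)
      constructor
      · exact Set.subset_univ _
      · intro h
        exact (h (Set.mem_univ P)) rfl
    rw [Set.ncard_univ] at h2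
    omega
  obtain ⟨k, hk⟩ := IsPGroup.index (P.isPGroup') (stabilizer (P : Subgroup G) Q)
  have hk1 : k ≠ 0 := by
    rintro rfl
    rw [pow_zero, Subgroup.index_eq_one, hstab, Subgroup.subgroupOf_eq_top] at hk
    apply hPQ
    have h1 : (P : Subgroup G) ≤ Q := fun x hx => (hk hx).2
    exact Sylow.ext (P.3 Q.isPGroup' h1).symm ▸ rfl
  have hk2 : k < 2 := by
    by_contra hcon
    have h1 : p ^ 2 ≤ p ^ k := Nat.pow_le_pow_right hp.pos (by omega)
    rw [hk] at hidx
    omega
  have hk3 : k = 1 := by omega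
  subst hk3
  rw [pow_one, hstab] at hk
  have h1 := Subgroup.card_mul_index (((P : Subgroup G) ⊓ Q).subgroupOf P)
  rw [hk] at h1
  have h2 : Nat.card (((P : Subgroup G) ⊓ Q).subgroupOf P) = Nat.card ((P : Subgroup G) ⊓ Q : Subgroup G) :=
    Nat.card_congr (Subgroup.subgroupOfEquivOfLe inf_le_left).toEquiv
  rw [h2] at h1
  rw [← h1, mul_comm]

theorem card_sylow_eq (P Q : Sylow p G) : Nat.card (P : Subgroup G) = Nat.card (Q : Subgroup G) := by
  rw [Sylow.card_eq_multiplicity, Sylow.card_eq_multiplicity]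

theorem inf_eq_of_le (hn : Nat.card (Sylow p G) < p ^ 2) {D : Subgroup G} (P Q R S : Sylow p G)
    (hPQ : P ≠ Q) (hD : D = (P : Subgroup G) ⊓ Q) (hRS : R ≠ S) (hR : D ≤ R) (hS : D ≤ S) :
    (R : Subgroup G) ⊓ S = D := by
  have hp : p.Prime := Fact.out
  have h1 := card_eq_mul_card_inf hn P Q hPQ
  have h2 := card_eq_mul_card_inf hn R S hRS
  rw [card_sylow_eq R P, h1] at h2
  have h3 : Nat.card ((P : Subgroup G) ⊓ Q : Subgroup G) = Nat.card ((R : Subgroup G) ⊓ S : Subgroup G) :=
    Nat.eq_of_mul_eq_mul_left hp.pos h2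
  symm
  apply Subgroup.eq_of_le_of_card_ge (le_inf hR hS)
  rw [hD, h3]

theorem inf_le_sylow (hn : Nat.card (Sylow p G) < p ^ 2) (P Q : Sylow p G) (hPQ : P ≠ Q)
    (X : Sylow p G) : (P : Subgroup G) ⊓ Q ≤ X := by
  classical
  have hp : p.Prime := Fact.out
  haveI : Fintype (Sylow p G) := Fintype.ofFinite _
  by_contra hX
  set D : Subgroup G := (P : Subgroup G) ⊓ Q with hD
  have hDp : IsPGroup p D := P.isPGroup'.to_le inf_le_left
  let f : Sylow p G → Subgroup G := fun R => (X : Subgroup G) ⊓ R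
  let s : Finset (Sylow p G) := Finset.univ.filter (fun R => R ≠ X)
  let F : Finset (Sylow p G) := Finset.univ.filter (fun R => D ≤ R)
  have hFs : F ⊆ s := by
    intro R hR
    simp only [F, s, Finset.mem_filter, Finset.mem_univ, true_and] at hR ⊢
    rintro rfl
    exact hX hR
  have hFcard : p + 1 ≤ F.card := by
    have h1 := card_sylow_ge_of_le hDp P Q hPQ inf_le_left inf_le_right
    have h2 : Nat.card {R : Sylow p G // D ≤ R} = F.card := by
      rw [Nat.card_eq_fintype_card, Fintype.card_subtype]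
    omega
  have hinj : Set.InjOn f F := by
    intro R hR R' hR' hff
    simp only [F, Finset.coe_filter, Finset.mem_univ, true_and, Set.mem_setOf_eq] at hR hR'
    by_contra hne
    have h1 : (R : Subgroup G) ⊓ R' = D := inf_eq_of_le hn P Q R R' hPQ hD hne hR hR'
    have hXR : X ≠ R := by
      rintro rfl
      exact hX hR
    have h2 : (X : Subgroup G) ⊓ R ≤ D := by
      rw [← h1]
      refine le_inf inf_le_right ?_
      have : (X : Subgroup G) ⊓ R = (X : Subgroup G) ⊓ R' := hff
      rw [this]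
      exact inf_le_right
    have h3 : (X : Subgroup G) ⊓ R = D := by
      apply Subgroup.eq_of_le_of_card_ge h2
      have h4 := card_eq_mul_card_inf hn P Q hPQ
      have h5 := card_eq_mul_card_inf hn X R hXR
      rw [card_sylow_eq X P, h4] at h5
      exact (Nat.eq_of_mul_eq_mul_left hp.pos h5).le
    apply hX
    rw [← h3]
    exact inf_le_left
  have himg : p + 1 ≤ (s.image f).card := by
    calc p + 1 ≤ F.card := hFcard
      _ = (F.image f).card := (Finset.card_image_of_injOn hinj).symm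
      _ ≤ (s.image f).card := Finset.card_le_card (Finset.image_subset_image hFs)
  have hfib : ∀ b ∈ s.image f, p ≤ (s.filter (fun R => f R = b)).card := by
    intro b hb
    obtain ⟨R, hR, rfl⟩ := Finset.mem_image.1 hb
    simp only [s, Finset.mem_filter, Finset.mem_univ, true_and] at hR
    have hbp : IsPGroup p ((X : Subgroup G) ⊓ R : Subgroup G) := X.isPGroup'.to_le inf_le_left
    have h1 := card_sylow_ge_of_le hbp X R (Ne.symm hR) inf_le_left inf_le_right
    have h2 : Nat.card {R' : Sylow p G // (X : Subgroup G) ⊓ R ≤ R'} =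
        (Finset.univ.filter (fun R' : Sylow p G => (X : Subgroup G) ⊓ R ≤ R')).card := by
      rw [Nat.card_eq_fintype_card, Fintype.card_subtype]
    have h3 : (Finset.univ.filter (fun R' : Sylow p G => (X : Subgroup G) ⊓ R ≤ R')).erase X ⊆
        s.filter (fun R' => f R' = f R) := by
      intro R' hR'
      simp only [Finset.mem_erase, Finset.mem_filter, Finset.mem_univ, true_and] at hR'
      simp only [s, Finset.mem_filter, Finset.mem_univ, true_and]
      refine ⟨hR'.1, ?_⟩
      exact inf_eq_of_le hn X R X R' (Ne.symm hR) rfl (Ne.symm hR'.1) inf_le_left hR'.2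
    have h4 := Finset.card_le_card h3
    have h5 : X ∈ Finset.univ.filter (fun R' : Sylow p G => (X : Subgroup G) ⊓ R ≤ R') := by
      simp
    rw [Finset.card_erase_of_mem h5] at h4
    omega
  have hcount : s.card = ∑ b ∈ s.image f, (s.filter (fun R => f R = b)).card :=
    Finset.card_eq_sum_card_image f s
  have hsum : (s.image f).card * p ≤ s.card := by
    rw [hcount]
    calc (s.image f).card * p = ∑ b ∈ s.image f, p := by rw [Finset.sum_const, smul_eq_mul]
      _ ≤ _ := Finset.sum_le_sum hfib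
  have hs : s.card < Nat.card (Sylow p G) := by
    rw [Nat.card_eq_fintype_card, ← Finset.card_univ]
    apply Finset.card_lt_card
    rw [Finset.ssubset_iff_of_subset (Finset.subset_univ _)]
    exact ⟨X, Finset.mem_univ _, by simp [s]⟩
  have h6 : (p + 1) * p ≤ s.card := le_trans (Nat.mul_le_mul_right p himg) hsum
  nlinarith

end Cfsg.Agent.Lib.Helper23.SylowSmall
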